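import Groth.Agent.Krr.H500.GrK
import Groth.Prelude.Def_KRR

/-!
# `lamAlt` and the top gamma operation; the graded push-forward and pull-back on classes

* `lamAlt_eq_gamma`: `Σ (-1)^i λ^i(e) = (-1)^m γ^m(e - m)` for `e` of augmentation `m ≥ 0`;
* `neg_one_pow_mul_chern`: `(-1)^m c_m(e) = [λ_{-1}(e)]_m`;
* `grPush_apply`, `grPull_apply`: the maps `fG`, `gG` on classes of elements of the rational filtration.
-/

set_option autoImplicit false
universe v

open scoped TensorProduct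
open LambdaRing KGr

namespace Groth.Agent.Krr.H500.GrChern

open Groth.Agent.Books.Lambda1
open Groth.Agent.Books.Lambda2
open Groth.Agent.Krr.H500.GrK

section lamAlt

open PowerSeries Finset

variable {K : Type v} [CommRing K]

lemma one_sub_pow_mul_T_pow {m j : ℕ} (h : j ≤ m) :
    (1 - X : PowerSeries K) ^ m * T K ^ j = X ^ j * (1 - X) ^ (m - j) := by
  have h3 : (1 - X : PowerSeries K) ^ m = (1 - X) ^ j * (1 - X) ^ (m - j) := by
    rw [← pow_add]; congr 1; omega
  have h4 : X ^ j = T K ^ j * (1 - X) ^ j := by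
    rw [← mul_pow, T_mul_one_sub]
  rw [h3, h4]
  ring

lemma coeff_one_sub_pow_self (k : ℕ) : coeff k ((1 - X : PowerSeries K) ^ k) = (-1) ^ k := by
  have h1 : (1 - X : PowerSeries K) = ((1 - Polynomial.X : Polynomial K) : PowerSeries K) := by
    simp
  rw [h1, ← Polynomial.coe_pow, Polynomial.coeff_coe]
  have h2 : (1 - Polynomial.X : Polynomial K) ^ k = (-1) ^ k * (Polynomial.X - 1) ^ k := by
    rw [← mul_pow]; ring
  rw [h2]
  have h3 : ((-1 : Polynomial K)) ^ k = Polynomial.C ((-1) ^ k) := by simp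
  rw [h3, Polynomial.coeff_C_mul]
  have h4 : (Polynomial.X - 1 : Polynomial K) ^ k = (Polynomial.X - Polynomial.C 1) ^ k := by simp
  rw [h4]
  have h5 : ((Polynomial.X - Polynomial.C (1 : K)) ^ k).coeff k = 1 := by
    nontriviality K
    have hm : ((Polynomial.X - Polynomial.C (1 : K)) ^ k).Monic :=
      (Polynomial.monic_X_sub_C (1 : K)).pow k
    have hd : ((Polynomial.X - Polynomial.C (1 : K)) ^ k).natDegree = k := by
      rw [(Polynomial.monic_X_sub_C (1 : K)).natDegree_pow, Polynomial.natDegree_X_sub_C, mul_one]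
    have := hm.coeff_natDegree
    rwa [hd] at this
  rw [h5, mul_one]

lemma coeff_one_sub_pow_mul_T_pow {m j : ℕ} (h : j ≤ m) :
    coeff m ((1 - X : PowerSeries K) ^ m * T K ^ j) = (-1) ^ (m - j) := by
  rw [one_sub_pow_mul_T_pow h, coeff_X_pow_mul', if_pos h, coeff_one_sub_pow_self]

variable [LambdaRing.LambdaOps K] (P : LambdaRing.PosStructure K)

include P in
/-- `γ^m(x - m) = Σ_{j ≤ m} (-1)^{m-j} λ^j(x)`, for every `x`. -/
lemma gamma_sub_natCast (x : K) (m : ℕ) :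
    gamma m (x - (m : K)) = ∑ j ∈ range (m + 1), (-1) ^ (m - j) * LambdaOps.lam j x := by
  rw [← coeff_gammaSeries, gammaSeries_sub_nat P, coeff_mul,
    Finset.Nat.sum_antidiagonal_eq_sum_range_succ_mk]
  have h1 : ∀ b ∈ range (m + 1), coeff b ((1 - X : PowerSeries K) ^ m) *
      coeff (m - b) (gammaSeries x) = ∑ j ∈ range (m + 1), LambdaOps.lam j x *
        (coeff b ((1 - X : PowerSeries K) ^ m) * coeff (m - b) (T K ^ j)) := by
    intro b _
    rw [coeff_gammaSeries, gamma_eq_sum]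
    have h2 : ∑ j ∈ range (m - b + 1), LambdaOps.lam j x * coeff (m - b) (T K ^ j) =
        ∑ j ∈ range (m + 1), LambdaOps.lam j x * coeff (m - b) (T K ^ j) := by
      apply Finset.sum_subset
      · intro j hj
        rw [Finset.mem_range] at hj ⊢
        omega
      · intro j _ hj
        rw [Finset.mem_range] at hj
        rw [coeff_T_pow_of_lt (by omega), mul_zero]
    rw [h2, Finset.mul_sum]
    apply Finset.sum_congr rfl
    intro j _
    ring
  simp only []
  rw [Finset.sum_congr rfl h1, Finset.sum_comm]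
  apply Finset.sum_congr rfl
  intro j hj
  have hj' : j ≤ m := by
    have := Finset.mem_range.mp hj
    omega
  rw [← Finset.mul_sum]
  have h3 := coeff_one_sub_pow_mul_T_pow (K := K) hj'
  rw [coeff_mul, Finset.Nat.sum_antidiagonal_eq_sum_range_succ_mk] at h3
  simp only [] at h3
  rw [h3, mul_comm]

/-- `λ_{-1}(e) = (-1)^m γ^m(e - m)` for every `e` of augmentation `m ≥ 0` (no positivity is needed). -/
lemma lamAlt_eq_gamma (e : K) (m : ℕ) (he : P.aug e = m) :
    KRR.lamAlt P e = (-1) ^ m * gamma m (e - (m : K)) := by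
  rw [KRR.lamAlt, he, Int.toNat_natCast, gamma_sub_natCast P, Finset.mul_sum]
  apply Finset.sum_congr rfl
  intro j hj
  have hj' : j ≤ m := by
    have := Finset.mem_range.mp hj
    omega
  rw [← mul_assoc, ← pow_add]
  congr 1
  have : m + (m - j) = 2 * (m - j) + j := by omega
  rw [this, pow_add, pow_mul]
  simp

lemma gamma_sub_mem (e : K) (m : ℕ) (he : P.aug e = m) :
    gamma m (e - (m : K)) ∈ gammaFiltration P m := by
  apply gamma_mem_filtration
  rw [map_sub, he, map_natCast, sub_self]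

lemma lamAlt_mem (e : K) (m : ℕ) (he : P.aug e = m) :
    KRR.lamAlt P e ∈ gammaFiltration P m := by
  rw [lamAlt_eq_gamma P e m he]
  exact mul_mem_filtration_left P _ _ _ (gamma_sub_mem P e m he)

end lamAlt

section chern

variable {K : Type v} [CommRing K] [LambdaRing.LambdaOps K] (P : LambdaRing.PosStructure K)

lemma chern_eq (e : K) (m : ℕ) (he : P.aug e = m) (i : ℕ) :
    chern P i e = grK P i (gamma i (e - (m : K))) := by
  rw [chern, he, Int.cast_natCast]

lemma grK_neg_one_pow_mul (n : ℤ) (m : ℕ) (x : K) :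
    grK P n ((-1) ^ m * x) = (-1) ^ m * grK P n x := by
  have h1 : ((-1 : K)) ^ m * x = (((-1 : ℤ) ^ m : ℤ) : K) * x := by push_cast; rfl
  rw [h1, grK_intCast_mul, zsmul_eq_mul]
  push_cast
  rfl

/-- `(-1)^m c_m(e)` is the class of `λ_{-1}(e)` in degree `m`, for `e` of augmentation `m`. -/
lemma neg_one_pow_mul_chern (e : K) (m : ℕ) (he : P.aug e = m) :
    (-1 : Gr P) ^ m * chern P m e = grK P (m : ℤ) (KRR.lamAlt P e) := by
  rw [lamAlt_eq_gamma P e m he, grK_neg_one_pow_mul, chern_eq P e m he]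

end chern

section maps

variable {KX KY : Type v} [CommRing KX] [LambdaRing.LambdaOps KX] [CommRing KY]
  [LambdaRing.LambdaOps KY] {PX : LambdaRing.PosStructure KX} {PY : LambdaRing.PosStructure KY}

/-- If `N • a = N • b` in `ℚGr` for some `N ≥ 1` then `a = b`. -/
lemma gr_nsmul_cancel {K : Type v} [CommRing K] [LambdaRing.LambdaOps K]
    {P : LambdaRing.PosStructure K} {N : ℕ} (hN : 1 ≤ N) {a b : Gr P} (h : N • a = N • b) :
    a = b := by
  have h1 : (N : ℚ) • a = (N : ℚ) • b := by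
    rw [Nat.cast_smul_eq_nsmul, Nat.cast_smul_eq_nsmul, h]
  have hN0 : (N : ℚ) ≠ 0 := by positivity
  have h2 := congrArg (fun z => (N : ℚ)⁻¹ • z) h1
  simpa [smul_smul, inv_mul_cancel₀ hN0] using h2

/-- `fG [x]_n = [fK x]_{n+d}` for every `x` in the rational filtration `ℚF^n`. -/
lemma grPush_apply {fK : KX →+ KY} {d : ℤ} {fG : Gr PX →+ Gr PY} (hf : IsGrPush PX PY fK d fG)
    {n : ℕ} {x : KX} (hx : x ∈ QF PX n) : fG (grK PX (n : ℤ) x) = grK PY ((n : ℤ) + d) (fK x) := by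
  obtain ⟨N, hN, hx⟩ := hx
  apply gr_nsmul_cancel hN
  rw [← map_nsmul, ← grK_natCast_mul, ← grK_natCast_mul, hf n _ hx]
  congr 1
  rw [← nsmul_eq_mul, ← nsmul_eq_mul, map_nsmul]

/-- `gG [y]_n = [g y]_n` for every `y` in the rational filtration `ℚF^n`. -/
lemma grPull_apply {g : KY →+ KX} {gG : Gr PY →+ Gr PX} (hg : IsGrPull PY PX g gG)
    {n : ℕ} {y : KY} (hy : y ∈ QF PY n) : gG (grK PY (n : ℤ) y) = grK PX (n : ℤ) (g y) := by
  obtain ⟨N, hN, hy⟩ := hy
  apply gr_nsmul_cancel hN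
  rw [← map_nsmul, ← grK_natCast_mul, ← grK_natCast_mul, hg n _ hy]
  congr 1
  rw [← nsmul_eq_mul, ← nsmul_eq_mul, map_nsmul]

end maps

section excess

variable {KX KY KX₁ KY₁ : Type v} [CommRing KX] [LambdaRing.LambdaOps KX] [CommRing KY]
  [LambdaRing.LambdaOps KY] [CommRing KX₁] [LambdaRing.LambdaOps KX₁] [CommRing KY₁]
  [LambdaRing.LambdaOps KY₁] {PX : LambdaRing.PosStructure KX} {PY : LambdaRing.PosStructure KY}
  {PX₁ : LambdaRing.PosStructure KX₁} {PY₁ : LambdaRing.PosStructure KY₁}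

/-- The graded excess formula, deduced formally from the excess formula on `K`, the behaviour of the
push-forward on the rational filtration, and the compatibility of the pull-back with the filtration. -/
theorem graded_excess {gφ : KY →+ KY₁} {gψ : KX →+ KX₁} {gf : KX →+ KY} {gf₁ : KX₁ →+ KY₁}
    {φG : Gr PY →+ Gr PY₁} (hφG : IsGrPull PY PY₁ gφ φG)
    {ψG : Gr PX →+ Gr PX₁} (hψG : IsGrPull PX PX₁ gψ ψG)
    {d d₁ : ℕ} (hd : d₁ ≤ d)
    {fG : Gr PX →+ Gr PY} (hfG : IsGrPush PX PY gf d fG)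
    {f₁G : Gr PX₁ →+ Gr PY₁} (hf₁G : IsGrPush PX₁ PY₁ gf₁ d₁ f₁G)
    {e : KX₁} (he : PX₁.aug e = ((d - d₁ : ℕ) : ℤ))
    {k : ℕ} {x : KX} (hx : x ∈ gammaFiltration PX k)
    (hψx : gψ x ∈ QF PX₁ k) (hfx : gf x ∈ QF PY (k + d))
    (hexc : gφ (gf x) = gf₁ (KRR.lamAlt PX₁ e * gψ x)) :
    f₁G ((-1 : Gr PX₁) ^ (d - d₁) * chern PX₁ (d - d₁) e * ψG (grK PX (k : ℤ) x)) =
      φG (fG (grK PX (k : ℤ) x)) := by
  have h1 : (-1 : Gr PX₁) ^ (d - d₁) * chern PX₁ (d - d₁) e * ψG (grK PX (k : ℤ) x) =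
      grK PX₁ (((d - d₁ + k : ℕ)) : ℤ) (KRR.lamAlt PX₁ e * gψ x) := by
    rw [neg_one_pow_mul_chern PX₁ e (d - d₁) he, hψG k x hx,
      grK_mul PX₁ (mem_QF_of_mem (lamAlt_mem PX₁ e _ he)) hψx]
    push_cast
    rfl
  rw [h1, grPush_apply hf₁G (mul_mem_QF (mem_QF_of_mem (lamAlt_mem PX₁ e _ he)) hψx),
    hfG k x hx]
  have h2 : ((k : ℤ) + (d : ℤ)) = ((k + d : ℕ) : ℤ) := by push_cast; rfl
  have h3 : (((d - d₁ + k : ℕ) : ℤ) + (d₁ : ℤ)) = ((k + d : ℕ) : ℤ) := by
    rw [← Nat.cast_add]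
    congr 1
    omega
  rw [h2, h3, grPull_apply hφG hfx, hexc]

end excess

end Groth.Agent.Krr.H500.GrChern
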