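import Groth.Prelude.Def_KGr
import Groth.Agent.Books.Lambda2

/-!
# API for `KGr.grK`: the associated graded ring of the gamma filtration tensored with the rationals

* `mem_rees_iff_coeff`, `monomial_mem_rees_iff`: the extended Rees ring is `⊕ F^n t^{-n}`;
* `QF P n`: the elements of `K` in the rational gamma filtration;
* `grK_eq`: the value of `grK` computed with any admissible denominator;
* `grK_add`, `grK_sum`, `grK_neg`, `grK_sub`, `grK_natCast_mul`, `grK_intCast_mul`, `grK_mul`;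
* `grK_eq_zero_of_mem`: vanishing in lower degree.
-/

set_option autoImplicit false
universe v

open scoped TensorProduct
open LaurentPolynomial LambdaRing KGr

namespace Groth.Agent.Krr.H500.GrK

open Groth.Agent.Books.Lambda1
open Groth.Agent.Books.Lambda2 hiding T

variable {K : Type v} [CommRing K] [LambdaRing.LambdaOps K] (P : LambdaRing.PosStructure K)

/-- The subring of Laurent polynomials with coefficients in the gamma filtration. -/
noncomputable def reesSub : Subring (LaurentPolynomial K) where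
  carrier := {p | ∀ n : ℤ, p.coeff (-n) ∈ gammaFiltration P n.toNat}
  mul_mem' := by
    intro p q hp hq n
    classical
    rw [AddMonoidAlgebra.coeff_mul]
    refine AddSubgroup.sum_mem _ fun a _ => AddSubgroup.sum_mem _ fun b _ => ?_
    dsimp only
    split_ifs with h
    · have ha := hp (-a)
      have hb := hq (-b)
      rw [neg_neg] at ha hb
      refine filtration_anti P ?_ (mul_mem_filtration P _ _ _ _ ha hb)
      omega
    · exact AddSubgroup.zero_mem _
  one_mem' := by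
    intro n
    have : (1 : LaurentPolynomial K) = C 1 := (map_one C).symm
    rw [this, C_apply]
    split_ifs with h
    · have : n.toNat = 0 := by omega
      rw [this]
      exact mem_filtration_zero P _
    · exact AddSubgroup.zero_mem _
  add_mem' := by
    intro p q hp hq n
    rw [AddMonoidAlgebra.coeff_add, Finsupp.add_apply]
    exact AddSubgroup.add_mem _ (hp n) (hq n)
  zero_mem' := by
    intro n
    exact AddSubgroup.zero_mem _
  neg_mem' := by
    intro p hp n
    have : (-p).coeff (-n) = -(p.coeff (-n)) := rfl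
    rw [this]
    exact AddSubgroup.neg_mem _ (hp n)

lemma mem_reesSub {p : LaurentPolynomial K} :
    p ∈ reesSub P ↔ ∀ n : ℤ, p.coeff (-n) ∈ gammaFiltration P n.toNat := Iff.rfl

omit [LambdaRing.LambdaOps K] in
lemma coeff_C_mul_T (x : K) (n m : ℤ) :
    (C x * T n : LaurentPolynomial K).coeff m = if n = m then x else 0 := by
  rw [← single_eq_C_mul_T]
  exact Finsupp.single_apply

lemma rees_le_reesSub : rees P ≤ reesSub P := by
  rw [rees, Subring.closure_le]
  rintro p hp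
  rcases hp with rfl | ⟨n, x, hx, rfl⟩
  · intro n
    rw [T_apply]
    split_ifs with h
    · have : n.toNat = 0 := by omega
      rw [this]
      exact mem_filtration_zero P _
    · exact AddSubgroup.zero_mem _
  · intro m
    rw [coeff_C_mul_T]
    split_ifs with h
    · have : m.toNat = n := by omega
      rw [this]
      exact hx
    · exact AddSubgroup.zero_mem _

lemma T_one_mem_rees : (T 1 : LaurentPolynomial K) ∈ rees P :=
  Subring.subset_closure (Set.mem_insert _ _)

lemma monomial_mem_rees {n : ℤ} {x : K} (hx : x ∈ gammaFiltration P n.toNat) :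
    (C x * T (-n) : LaurentPolynomial K) ∈ rees P := by
  rcases le_or_gt 0 n with hn | hn
  · obtain ⟨k, rfl⟩ := Int.eq_ofNat_of_zero_le hn
    exact Subring.subset_closure (Or.inr ⟨k, x, by simpa using hx, rfl⟩)
  · obtain ⟨k, hk⟩ := Int.eq_ofNat_of_zero_le (show 0 ≤ -n by omega)
    have h1 : (C x * T (-((0 : ℕ) : ℤ)) : LaurentPolynomial K) ∈ rees P :=
      Subring.subset_closure (Or.inr ⟨0, x, mem_filtration_zero P x, rfl⟩)
    have h2 : (T 1 : LaurentPolynomial K) ^ k ∈ rees P := Subring.pow_mem _ (T_one_mem_rees P) k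
    have h3 := Subring.mul_mem _ h1 h2
    rw [T_pow, mul_T_assoc] at h3
    rw [hk]
    simpa using h3

lemma monomial_mem_rees_iff {n : ℤ} {x : K} :
    (C x * T (-n) : LaurentPolynomial K) ∈ rees P ↔ x ∈ gammaFiltration P n.toNat := by
  refine ⟨fun h => ?_, monomial_mem_rees P⟩
  have := rees_le_reesSub P h n
  rw [coeff_C_mul_T, if_pos rfl] at this
  exact this

/-- The extended Rees ring consists of the Laurent polynomials with coefficients in the filtration. -/
lemma mem_rees_iff_coeff {p : LaurentPolynomial K} :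
    p ∈ rees P ↔ ∀ n : ℤ, p.coeff (-n) ∈ gammaFiltration P n.toNat := by
  refine ⟨fun h => rees_le_reesSub P h, fun h => ?_⟩
  have hp : p = ∑ a ∈ p.coeff.support, C (p.coeff a) * T a := by
    ext m
    rw [AddMonoidAlgebra.coeff_sum, Finsupp.finsetSum_apply]
    simp only [coeff_C_mul_T]
    rw [Finset.sum_ite_eq']
    split_ifs with h'
    · rfl
    · simpa using h'
  rw [hp]
  refine Subring.sum_mem _ fun a _ => ?_
  have := h (-a)
  rw [neg_neg] at this
  have h2 := monomial_mem_rees P this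
  rwa [neg_neg] at h2

/-- The rational gamma filtration: `x` with some `N x ∈ F^n`, `N ≥ 1`. -/
def QF (n : ℕ) : AddSubgroup K where
  carrier := {x | ∃ N : ℕ, 1 ≤ N ∧ (N : K) * x ∈ gammaFiltration P n}
  zero_mem' := ⟨1, le_rfl, by simp⟩
  add_mem' := by
    rintro x y ⟨N, hN, hx⟩ ⟨M, hM, hy⟩
    refine ⟨N * M, Nat.mul_pos hN hM, ?_⟩
    have : ((N * M : ℕ) : K) * (x + y) = (M : K) * ((N : K) * x) + (N : K) * ((M : K) * y) := by
      push_cast; ring
    rw [this]
    exact AddSubgroup.add_mem _ (mul_mem_filtration_left P _ _ _ hx)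
      (mul_mem_filtration_left P _ _ _ hy)
  neg_mem' := by
    rintro x ⟨N, hN, hx⟩
    refine ⟨N, hN, ?_⟩
    rw [mul_neg]
    exact AddSubgroup.neg_mem _ hx

variable {P}

lemma mem_QF {n : ℕ} {x : K} :
    x ∈ QF P n ↔ ∃ N : ℕ, 1 ≤ N ∧ (N : K) * x ∈ gammaFiltration P n := Iff.rfl

lemma mem_QF_of_mem {n : ℕ} {x : K} (hx : x ∈ gammaFiltration P n) : x ∈ QF P n :=
  ⟨1, le_rfl, by simpa using hx⟩

lemma QF_anti {m n : ℕ} (h : m ≤ n) : QF P n ≤ QF P m := by
  rintro x ⟨N, hN, hx⟩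
  exact ⟨N, hN, filtration_anti P h hx⟩

lemma mul_mem_QF_left {n : ℕ} (a : K) {x : K} (hx : x ∈ QF P n) : a * x ∈ QF P n := by
  obtain ⟨N, hN, hx⟩ := hx
  refine ⟨N, hN, ?_⟩
  rw [mul_left_comm]
  exact mul_mem_filtration_left P _ _ _ hx

lemma mul_mem_QF {m n : ℕ} {x y : K} (hx : x ∈ QF P m) (hy : y ∈ QF P n) :
    x * y ∈ QF P (m + n) := by
  obtain ⟨N, hN, hx⟩ := hx
  obtain ⟨M, hM, hy⟩ := hy
  refine ⟨N * M, Nat.mul_pos hN hM, ?_⟩
  have : ((N * M : ℕ) : K) * (x * y) = ((N : K) * x) * ((M : K) * y) := by push_cast; ring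
  rw [this]
  exact mul_mem_filtration P _ _ _ _ hx hy

lemma mem_QF_of_natCast_mul {n N : ℕ} (hN : 1 ≤ N) {x : K} (hx : (N : K) * x ∈ QF P n) :
    x ∈ QF P n := by
  obtain ⟨M, hM, hx⟩ := hx
  refine ⟨M * N, Nat.mul_pos hM hN, ?_⟩
  rw [Nat.cast_mul, mul_assoc]
  exact hx

lemma mem_QF_zero (x : K) : x ∈ QF P 0 := mem_QF_of_mem (mem_filtration_zero P x)

variable (P)

/-- The class of `x t^{-n}` in the associated graded ring, for `x ∈ F^n`. -/
noncomputable def cls (n : ℤ) : gammaFiltration P n.toNat →+ GrZ P where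
  toFun x := Ideal.Quotient.mk (Ideal.span {tGen P}) ⟨C x.1 * T (-n), monomial_mem_rees P x.2⟩
  map_zero' := by
    rw [Ideal.Quotient.eq_zero_iff_mem]
    have : (⟨C ((0 : gammaFiltration P n.toNat) : K) * T (-n),
        monomial_mem_rees P (0 : gammaFiltration P n.toNat).2⟩ : rees P) = 0 := by
      apply Subtype.ext
      simp
    rw [this]
    exact Ideal.zero_mem _
  map_add' x y := by
    rw [← map_add]
    congr 1
    apply Subtype.ext
    simp [add_mul]

lemma cls_apply (n : ℤ) (x : gammaFiltration P n.toNat) :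
    cls P n x = Ideal.Quotient.mk (Ideal.span {tGen P}) ⟨C x.1 * T (-n), monomial_mem_rees P x.2⟩ :=
  rfl

lemma grK_aux {n : ℤ} {x : K} {N M : ℕ} (hN : 1 ≤ N) (hM : 1 ≤ M)
    (h1 : C ((N : K) * x) * T (-n) ∈ rees P) (h2 : C ((M : K) * x) * T (-n) ∈ rees P) :
    ((1 : ℚ) / ((N : ℕ) : ℚ)) ⊗ₜ[ℤ]
      Ideal.Quotient.mk (Ideal.span {tGen P}) (⟨C ((N : K) * x) * T (-n), h1⟩ : rees P) =
    ((1 : ℚ) / ((M : ℕ) : ℚ)) ⊗ₜ[ℤ]
      Ideal.Quotient.mk (Ideal.span {tGen P}) (⟨C ((M : K) * x) * T (-n), h2⟩ : rees P) := by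
  have hN0 : (N : ℚ) ≠ 0 := by positivity
  have hM0 : (M : ℚ) ≠ 0 := by positivity
  have e1 : (1 : ℚ) / (N : ℚ) = (M : ℤ) • ((1 : ℚ) / ((N * M : ℕ) : ℚ)) := by
    rw [zsmul_eq_mul]; push_cast; field_simp
  have e2 : (1 : ℚ) / (M : ℚ) = (N : ℤ) • ((1 : ℚ) / ((N * M : ℕ) : ℚ)) := by
    rw [zsmul_eq_mul]; push_cast; field_simp
  rw [e1, e2, TensorProduct.smul_tmul, TensorProduct.smul_tmul, ← map_zsmul, ← map_zsmul]
  congr 2
  apply Subtype.ext
  change (M : ℤ) • (C ((N : K) * x) * T (-n) : LaurentPolynomial K) =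
    (N : ℤ) • (C ((M : K) * x) * T (-n) : LaurentPolynomial K)
  simp only [map_mul, map_natCast, zsmul_eq_mul, Int.cast_natCast]
  ring

/-- The value of `grK` with any admissible denominator. -/
lemma grK_eq {n : ℤ} {x : K} {N : ℕ} (hN : 1 ≤ N)
    (hx : (N : K) * x ∈ gammaFiltration P n.toNat) :
    grK P n x = ((1 : ℚ) / ((N : ℕ) : ℚ)) ⊗ₜ[ℤ] cls P n ⟨(N : K) * x, hx⟩ := by
  have h : ∃ N : ℕ, 1 ≤ N ∧ C ((N : K) * x) * T (-n) ∈ rees P := ⟨N, hN, monomial_mem_rees P hx⟩
  rw [grK, dif_pos h]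
  exact grK_aux P h.choose_spec.1 hN h.choose_spec.2 (monomial_mem_rees P hx)

lemma grK_eq_zero_of_notMem {n : ℤ} {x : K} (hx : x ∉ QF P n.toNat) : grK P n x = 0 := by
  rw [grK, dif_neg]
  rintro ⟨N, hN, h⟩
  exact hx ⟨N, hN, (monomial_mem_rees_iff P).1 h⟩

lemma grK_eq_of_mem {n : ℤ} {x : K} (hx : x ∈ gammaFiltration P n.toNat) :
    grK P n x = (1 : ℚ) ⊗ₜ[ℤ] cls P n ⟨x, hx⟩ := by
  rw [grK_eq P (N := 1) le_rfl (by simpa using hx)]
  have h1 : (1 : ℚ) / ((1 : ℕ) : ℚ) = 1 := by simp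
  rw [h1]
  congr 2
  apply Subtype.ext
  simp

lemma grK_add {n : ℤ} {x y : K} (hx : x ∈ QF P n.toNat) (hy : y ∈ QF P n.toNat) :
    grK P n (x + y) = grK P n x + grK P n y := by
  obtain ⟨N, hN, hx⟩ := hx
  obtain ⟨M, hM, hy⟩ := hy
  have hNM : 1 ≤ N * M := Nat.mul_pos hN hM
  have hx' : ((N * M : ℕ) : K) * x ∈ gammaFiltration P n.toNat := by
    have : ((N * M : ℕ) : K) * x = (M : K) * ((N : K) * x) := by push_cast; ring
    rw [this]
    exact mul_mem_filtration_left P _ _ _ hx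
  have hy' : ((N * M : ℕ) : K) * y ∈ gammaFiltration P n.toNat := by
    have : ((N * M : ℕ) : K) * y = (N : K) * ((M : K) * y) := by push_cast; ring
    rw [this]
    exact mul_mem_filtration_left P _ _ _ hy
  have hxy : ((N * M : ℕ) : K) * (x + y) ∈ gammaFiltration P n.toNat := by
    rw [mul_add]
    exact AddSubgroup.add_mem _ hx' hy'
  rw [grK_eq P hNM hx', grK_eq P hNM hy', grK_eq P hNM hxy, ← TensorProduct.tmul_add, ← map_add]
  congr 2
  apply Subtype.ext
  exact mul_add _ _ _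

lemma grK_zero (n : ℤ) : grK P n (0 : K) = 0 := by
  rw [grK_eq_of_mem P (AddSubgroup.zero_mem _)]
  have : (⟨0, AddSubgroup.zero_mem _⟩ : gammaFiltration P n.toNat) = 0 := rfl
  rw [this, map_zero, TensorProduct.tmul_zero]

lemma grK_neg (n : ℤ) (x : K) : grK P n (-x) = -grK P n x := by
  by_cases hx : x ∈ QF P n.toNat
  · have h := grK_add P hx ((QF P n.toNat).neg_mem hx)
    rw [add_neg_cancel, grK_zero] at h
    rw [eq_neg_iff_add_eq_zero, add_comm]
    exact h.symm
  · rw [grK_eq_zero_of_notMem P hx, grK_eq_zero_of_notMem P, neg_zero]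
    intro h
    apply hx
    simpa using (QF P n.toNat).neg_mem h

lemma grK_sub {n : ℤ} {x y : K} (hx : x ∈ QF P n.toNat) (hy : y ∈ QF P n.toNat) :
    grK P n (x - y) = grK P n x - grK P n y := by
  rw [sub_eq_add_neg, grK_add P hx ((QF P n.toNat).neg_mem hy), grK_neg, sub_eq_add_neg]

lemma grK_natCast_mul (n : ℤ) (N : ℕ) (x : K) : grK P n ((N : K) * x) = N • grK P n x := by
  rcases Nat.eq_zero_or_pos N with rfl | hN
  · rw [Nat.cast_zero, zero_mul, grK_zero, zero_smul]
  by_cases hx : x ∈ QF P n.toNat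
  · obtain ⟨M, hM, hx⟩ := hx
    have hMN : (M : K) * ((N : K) * x) ∈ gammaFiltration P n.toNat := by
      rw [mul_left_comm]
      exact mul_mem_filtration_left P _ _ _ hx
    rw [grK_eq P hM hx, grK_eq P hM hMN, ← TensorProduct.tmul_smul, ← map_nsmul]
    congr 2
    apply Subtype.ext
    change (M : K) * ((N : K) * x) = N • ((M : K) * x)
    rw [nsmul_eq_mul]
    ring
  · rw [grK_eq_zero_of_notMem P hx, grK_eq_zero_of_notMem P, smul_zero]
    intro h
    exact hx (mem_QF_of_natCast_mul hN h)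

lemma grK_intCast_mul (n : ℤ) (N : ℤ) (x : K) : grK P n ((N : K) * x) = N • grK P n x := by
  rcases Int.eq_nat_or_neg N with ⟨k, rfl | rfl⟩
  · rw [Int.cast_natCast, grK_natCast_mul, natCast_zsmul]
  · rw [Int.cast_neg, Int.cast_natCast, neg_mul, grK_neg, grK_natCast_mul, neg_smul, natCast_zsmul]

lemma grK_sum {ι : Type*} {n : ℤ} (s : Finset ι) (f : ι → K)
    (hf : ∀ i ∈ s, f i ∈ QF P n.toNat) :
    grK P n (∑ i ∈ s, f i) = ∑ i ∈ s, grK P n (f i) := by
  classical
  induction s using Finset.induction_on with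
  | empty => simp [grK_zero]
  | insert a s ha ih =>
    rw [Finset.sum_insert ha, Finset.sum_insert ha, grK_add P (hf a (Finset.mem_insert_self _ _))
      ((QF P n.toNat).sum_mem fun i hi => hf i (Finset.mem_insert_of_mem hi)),
      ih fun i hi => hf i (Finset.mem_insert_of_mem hi)]

/-- `grK` is multiplicative on the rational filtration (all integers `m`, `n`). -/
lemma grK_mul' {m n : ℤ} {x y : K} (hx : x ∈ QF P m.toNat) (hy : y ∈ QF P n.toNat) :
    grK P m x * grK P n y = grK P (m + n) (x * y) := by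
  obtain ⟨N, hN, hx⟩ := hx
  obtain ⟨M, hM, hy⟩ := hy
  have hNM : 1 ≤ N * M := Nat.mul_pos hN hM
  have hxy : ((N * M : ℕ) : K) * (x * y) ∈ gammaFiltration P (m + n).toNat := by
    have : ((N * M : ℕ) : K) * (x * y) = ((N : K) * x) * ((M : K) * y) := by push_cast; ring
    rw [this]
    refine filtration_anti P ?_ (mul_mem_filtration P _ _ _ _ hx hy)
    omega
  rw [grK_eq P hN hx, grK_eq P hM hy, grK_eq P hNM hxy, Algebra.TensorProduct.tmul_mul_tmul]
  congr 1
  · push_cast
    field_simp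
  · rw [cls_apply, cls_apply, cls_apply, ← map_mul]
    congr 1
    apply Subtype.ext
    change (C ((N : K) * x) * T (-m)) * (C ((M : K) * y) * T (-n)) =
      (C (((N * M : ℕ) : K) * (x * y)) * T (-(m + n)) : LaurentPolynomial K)
    rw [neg_add, T_add]
    push_cast
    simp only [map_mul]
    ring

/-- Form of `grK_mul'` for natural numbers. -/
lemma grK_mul {m n : ℕ} {x y : K} (hx : x ∈ QF P m) (hy : y ∈ QF P n) :
    grK P (m : ℤ) x * grK P (n : ℤ) y = grK P ((m : ℤ) + n) (x * y) :=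
  grK_mul' P (by simpa using hx) (by simpa using hy)

/-- The class in degree `n` of an element of `F^{n+1}` vanishes. -/
lemma grK_eq_zero_of_mem {n : ℤ} {x : K} (hx : x ∈ QF P (n + 1).toNat) : grK P n x = 0 := by
  obtain ⟨N, hN, hx⟩ := hx
  have hx' : (N : K) * x ∈ gammaFiltration P n.toNat := filtration_anti P (by omega) hx
  rw [grK_eq P hN hx', cls_apply]
  have : Ideal.Quotient.mk (Ideal.span {tGen P})
      (⟨C ((N : K) * x) * T (-n), monomial_mem_rees P hx'⟩ : rees P) = 0 := by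
    rw [Ideal.Quotient.eq_zero_iff_mem, Ideal.mem_span_singleton']
    refine ⟨⟨C ((N : K) * x) * T (-(n + 1)), monomial_mem_rees P hx⟩, ?_⟩
    apply Subtype.ext
    change (C ((N : K) * x) * T (-(n + 1))) * T 1 = (C ((N : K) * x) * T (-n) : LaurentPolynomial K)
    rw [mul_T_assoc]
    congr 2
    ring
  rw [this, TensorProduct.tmul_zero]

/-- `1 ⊗ z` vanishes in `ℚ ⊗ M` only when `z` is torsion. -/
lemma exists_nsmul_eq_zero {M : Type*} [AddCommGroup M] {z : M} {q : ℚ} (hq : q ≠ 0)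
    (h : q ⊗ₜ[ℤ] z = (0 : ℚ ⊗[ℤ] M)) : ∃ k : ℕ, 1 ≤ k ∧ k • z = 0 := by
  have h1 : (1 : ℚ) ⊗ₜ[ℤ] z = (0 : ℚ ⊗[ℤ] M) := by
    have : (1 : ℚ) ⊗ₜ[ℤ] z = q⁻¹ • (q ⊗ₜ[ℤ] z) := by
      rw [TensorProduct.smul_tmul', smul_eq_mul, inv_mul_cancel₀ hq]
    rw [this, h, smul_zero]
  have hloc : IsLocalizedModule (nonZeroDivisors ℤ) (TensorProduct.mk ℤ ℚ M 1) :=
    (isLocalizedModule_iff_isBaseChange (nonZeroDivisors ℤ) ℚ _).2 (TensorProduct.isBaseChange ℤ M ℚ)
  obtain ⟨s, hs⟩ := (IsLocalizedModule.eq_zero_iff (nonZeroDivisors ℤ) (TensorProduct.mk ℤ ℚ M 1)).1 h1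
  refine ⟨(s : ℤ).natAbs, ?_, ?_⟩
  · have := nonZeroDivisors.ne_zero s.2
    omega
  · have hs' : (s : ℤ) • z = 0 := hs
    rcases Int.natAbs_eq (s : ℤ) with h' | h'
    · rw [h', natCast_zsmul] at hs'
      exact hs'
    · rw [h', neg_smul, natCast_zsmul, neg_eq_zero] at hs'
      exact hs'

/-- The vanishing criterion for `grK` in degrees `n ≥ 0`, for elements of the rational filtration. -/
lemma grK_eq_zero_iff {n : ℕ} {x : K} (hx : x ∈ QF P n) :
    grK P (n : ℤ) x = 0 ↔ x ∈ QF P (n + 1) := by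
  refine ⟨fun h => ?_, fun h => grK_eq_zero_of_mem P (by exact_mod_cast h)⟩
  obtain ⟨N, hN, hx⟩ := hx
  have hx' : (N : K) * x ∈ gammaFiltration P (n : ℤ).toNat := by simpa using hx
  rw [grK_eq P hN hx'] at h
  obtain ⟨k, hk, hk'⟩ := exists_nsmul_eq_zero (by positivity) h
  rw [← map_nsmul, cls_apply, Ideal.Quotient.eq_zero_iff_mem, Ideal.mem_span_singleton'] at hk'
  obtain ⟨p, hp⟩ := hk'
  have hp' : (p : LaurentPolynomial K) * T 1 = C ((k : K) * ((N : K) * x)) * T (-(n : ℤ)) := by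
    have := congrArg Subtype.val hp
    rw [← nsmul_eq_mul]
    exact this
  have hp2 : (p : LaurentPolynomial K) = C ((k : K) * ((N : K) * x)) * T (-((n + 1 : ℕ) : ℤ)) := by
    have h1 : (p : LaurentPolynomial K) = (p : LaurentPolynomial K) * T 1 * T (-1) := by
      rw [mul_T_assoc]; simp
    rw [h1, hp', mul_T_assoc]
    congr 2
    push_cast
    ring
  have h2 := p.2
  rw [hp2, monomial_mem_rees_iff] at h2
  refine ⟨k * N, Nat.mul_pos hk hN, ?_⟩
  rw [Nat.cast_mul, mul_assoc]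
  simpa using h2

lemma grK_zero_one : grK P 0 (1 : K) = 1 := by
  rw [grK_eq_of_mem P (mem_filtration_zero P _)]
  have : cls P 0 ⟨1, mem_filtration_zero P _⟩ = 1 := by
    rw [cls_apply, ← map_one (Ideal.Quotient.mk (Ideal.span {tGen P}))]
    congr 1
    apply Subtype.ext
    simp
  rw [this]
  rfl

end Groth.Agent.Krr.H500.GrK
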