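import Groth.Agent.Flat2H.KoszulBasic

/-!
# Additive (semi)linear functors commute with the iterated cones `kos`, naturally in the functor
-/

set_option autoImplicit false

universe w w' v v' u u'

open CategoryTheory Category Limits CochainComplex CochainComplex.HomComplex CochainComplex.mappingCone

namespace Groth.Agent.Krr.H500.KosFun

open Groth.Agent.Flat2H.KoszulBasic

section Gen

variable {C : Type u} [Category.{v} C] [Preadditive C] [HasBinaryBiproducts C]

lemma isIso_map {K₁ L₁ K₂ L₂ : CochainComplex C ℤ} (φ₁ : K₁ ⟶ L₁) (φ₂ : K₂ ⟶ L₂)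
    (a : K₁ ⟶ K₂) (b : L₁ ⟶ L₂) (comm : φ₁ ≫ b = a ≫ φ₂) [IsIso a] [IsIso b] :
    IsIso (mappingCone.map φ₁ φ₂ a b comm) := by
  have comm' : φ₂ ≫ inv b = inv a ≫ φ₁ := by
    rw [IsIso.comp_inv_eq, assoc, comm, IsIso.inv_hom_id_assoc]
  refine ⟨mappingCone.map φ₂ φ₁ (inv a) (inv b) comm', ?_, ?_⟩
  · rw [← mappingCone.map_comp]
    simp only [IsIso.hom_inv_id, mappingCone.map_id]
  · rw [← mappingCone.map_comp]
    simp only [IsIso.inv_hom_id, mappingCone.map_id]

lemma map_congr {K₁ L₁ K₂ L₂ : CochainComplex C ℤ} {φ₁ : K₁ ⟶ L₁} {φ₂ : K₂ ⟶ L₂}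
    {a a' : K₁ ⟶ K₂} {b b' : L₁ ⟶ L₂} (comm : φ₁ ≫ b = a ≫ φ₂) (comm' : φ₁ ≫ b' = a' ≫ φ₂)
    (ha : a = a') (hb : b = b') : mappingCone.map φ₁ φ₂ a b comm = mappingCone.map φ₁ φ₂ a' b' comm' := by
  subst ha hb; rfl

end Gen

variable {A : Type w} [CommRing A] {B : Type w'} [CommRing B] (σ : A → B)
  {C : Type u} [Category.{v} C] [Preadditive C] [Linear A C] [HasBinaryBiproducts C]
  {D : Type u'} [Category.{v'} D] [Preadditive D] [Linear B D] [HasBinaryBiproducts D]

/-- `F` is `σ`-semilinear. -/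
def Semi (F : C ⥤ D) : Prop := ∀ (a : A) (X : C), F.map (a • 𝟙 X) = σ a • 𝟙 (F.obj X)

/-- The functor on cochain complexes. -/
noncomputable abbrev mc (F : C ⥤ D) [F.Additive] : CochainComplex C ℤ ⥤ CochainComplex D ℤ :=
  F.mapHomologicalComplex (ComplexShape.up ℤ)

/-- A natural transformation on cochain complexes. -/
noncomputable abbrev mn {F F' : C ⥤ D} [F.Additive] [F'.Additive] (τ : F ⟶ F') : mc F ⟶ mc F' :=
  NatTrans.mapHomologicalComplex τ (ComplexShape.up ℤ)

variable {σ} {F F' : C ⥤ D} [F.Additive] [F'.Additive]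

omit [HasBinaryBiproducts C] [HasBinaryBiproducts D] in
lemma map_smul_id (hF : Semi σ F) (a : A) (K : CochainComplex C ℤ) :
    (mc F).map (a • 𝟙 K) = σ a • 𝟙 _ := by
  ext n
  exact hF a (K.X n)

/-- One step of the comparison. -/
noncomputable def coneStep (hF : Semi σ F) (a : A) {K : CochainComplex C ℤ} {M : CochainComplex D ℤ}
    (e : (mc F).obj K ⟶ M) : (mc F).obj (cone1 a K) ⟶ cone1 (σ a) M :=
  (mapHomologicalComplexIso (a • 𝟙 K) F).hom ≫
    mappingCone.map ((mc F).map (a • 𝟙 K)) (σ a • 𝟙 M) e e (by rw [map_smul_id hF]; simp)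

lemma isIso_coneStep (hF : Semi σ F) (a : A) {K : CochainComplex C ℤ} {M : CochainComplex D ℤ}
    (e : (mc F).obj K ⟶ M) [IsIso e] : IsIso (coneStep hF a e) := by
  have := isIso_map ((mc F).map (a • 𝟙 K)) (σ a • 𝟙 M) e e (by rw [map_smul_id hF]; simp)
  exact IsIso.comp_isIso' inferInstance this

section Cmp

set_option backward.defeqAttrib.useBackward true
set_option backward.isDefEq.respectTransparency false

omit [Linear A C] [Linear B D] in
lemma cmp_fst {K L : CochainComplex C ℤ} (φ : K ⟶ L) (n : ℤ) :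
    (mapHomologicalComplexIso φ F).hom.f n ≫ (fst ((mc F).map φ)).1.v n (n + 1) rfl =
      F.map ((fst φ).1.v n (n + 1) rfl) := by
  change (mapHomologicalComplexXIso' φ F n (n + 1) rfl).hom ≫ _ = _
  rw [mapHomologicalComplexXIso'_hom]
  simp only [Preadditive.add_comp, assoc, inl_v_fst_v, inr_f_fst_v, comp_zero, add_zero]
  exact comp_id _

omit [Linear A C] [Linear B D] in
lemma cmp_snd {K L : CochainComplex C ℤ} (φ : K ⟶ L) (n : ℤ) :
    (mapHomologicalComplexIso φ F).hom.f n ≫ (snd ((mc F).map φ)).v n n (add_zero n) =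
      F.map ((snd φ).v n n (add_zero n)) := by
  change (mapHomologicalComplexXIso' φ F n (n + 1) rfl).hom ≫ _ = _
  rw [mapHomologicalComplexXIso'_hom]
  simp only [Preadditive.add_comp, assoc, inl_v_snd_v, inr_f_snd_v, comp_zero, zero_add]
  exact comp_id _

omit [Linear A C] in
lemma coneMap_fst {K₁ L₁ K₂ L₂ : CochainComplex C ℤ} (φ₁ : K₁ ⟶ L₁) (φ₂ : K₂ ⟶ L₂)
    (a : K₁ ⟶ K₂) (b : L₁ ⟶ L₂) (comm : φ₁ ≫ b = a ≫ φ₂) (n : ℤ) :
    (mappingCone.map φ₁ φ₂ a b comm).f n ≫ (fst φ₂).1.v n (n + 1) rfl =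
      (fst φ₁).1.v n (n + 1) rfl ≫ a.f (n + 1) := by
  rw [mappingCone.ext_from_iff _ (n + 1) n rfl]
  constructor
  · simp [mappingCone.map]
  · simp [mappingCone.map]

omit [Linear A C] in
lemma coneMap_snd {K₁ L₁ K₂ L₂ : CochainComplex C ℤ} (φ₁ : K₁ ⟶ L₁) (φ₂ : K₂ ⟶ L₂)
    (a : K₁ ⟶ K₂) (b : L₁ ⟶ L₂) (comm : φ₁ ≫ b = a ≫ φ₂) (n : ℤ) :
    (mappingCone.map φ₁ φ₂ a b comm).f n ≫ (snd φ₂).v n n (add_zero n) =
      (snd φ₁).v n n (add_zero n) ≫ b.f n := by
  rw [mappingCone.ext_from_iff _ (n + 1) n rfl]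
  constructor
  · simp [mappingCone.map]
  · simp [mappingCone.map]

omit [Linear A C] [Linear B D] in
lemma mapHomologicalComplexIso_natural (τ : F ⟶ F') {K L : CochainComplex C ℤ} (φ : K ⟶ L) :
    (mn τ).app (mappingCone φ) ≫ (mapHomologicalComplexIso φ F').hom =
    (mapHomologicalComplexIso φ F).hom ≫
      mappingCone.map ((mc F).map φ) ((mc F').map φ) ((mn τ).app K) ((mn τ).app L) ((mn τ).naturality φ) := by
  ext n
  rw [HomologicalComplex.comp_f, HomologicalComplex.comp_f, mappingCone.ext_to_iff _ _ (n + 1) rfl]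
  constructor
  · rw [assoc, assoc, coneMap_fst, cmp_fst]
    refine (τ.naturality _).symm.trans ?_
    rw [← assoc]
    exact congrArg (fun t => t ≫ τ.app (K.X (n + 1))) (cmp_fst φ n).symm
  · rw [assoc, assoc, coneMap_snd, cmp_snd]
    refine (τ.naturality _).symm.trans ?_
    rw [← assoc]
    exact congrArg (fun t => t ≫ τ.app (L.X n)) (cmp_snd φ n).symm

end Cmp

lemma coneStep_natural (hF : Semi σ F) (hF' : Semi σ F') (τ : F ⟶ F') (a : A) {K : CochainComplex C ℤ}
    {M M' : CochainComplex D ℤ} (e : (mc F).obj K ⟶ M) (e' : (mc F').obj K ⟶ M') (m : M ⟶ M')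
    (h : (mn τ).app K ≫ e' = e ≫ m) :
    (mn τ).app (cone1 a K) ≫ coneStep hF' a e' = coneStep hF a e ≫ cone1Map (σ a) m := by
  rw [coneStep, coneStep, ← assoc, mapHomologicalComplexIso_natural, assoc, assoc, cone1Map]
  congr 1
  rw [← mappingCone.map_comp, ← mappingCone.map_comp]
  exact map_congr _ _ h h

/-- The comparison map. -/
noncomputable def kosHom (hF : Semi σ F) : ∀ (l : List A) (K : CochainComplex C ℤ),
    (mc F).obj (kos l K) ⟶ kos (l.map σ) ((mc F).obj K)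
  | [], K => 𝟙 ((mc F).obj K)
  | a :: l, K => coneStep hF a (kosHom hF l K)

instance isIso_kosHom (hF : Semi σ F) (l : List A) (K : CochainComplex C ℤ) : IsIso (kosHom hF l K) := by
  induction l with
  | nil => exact inferInstanceAs (IsIso (𝟙 ((mc F).obj K)))
  | cons a l ih => exact isIso_coneStep hF a (kosHom hF l K)

/-- Naturality of the comparison in the functor. -/
lemma kosHom_natural (hF : Semi σ F) (hF' : Semi σ F') (τ : F ⟶ F') (l : List A) (K : CochainComplex C ℤ) :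
    (mn τ).app (kos l K) ≫ kosHom hF' l K = kosHom hF l K ≫ kosMap (l.map σ) ((mn τ).app K) := by
  induction l with
  | nil => exact (comp_id ((mn τ).app K)).trans (id_comp ((mn τ).app K)).symm
  | cons a l ih => exact coneStep_natural hF hF' τ a _ _ _ ih

end Groth.Agent.Krr.H500.KosFun
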