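import Groth.Agent.Krr.H500.KosTransfer
import Groth.Agent.Krr.H500.KosFun
import Mathlib.CategoryTheory.Abelian.FunctorCategory
import Mathlib.CategoryTheory.Linear.FunctorCategory
import Mathlib.CategoryTheory.Limits.FunctorCategory.EpiMono

/-!
# The vanishing of maps on Koszul homology depends only on the ideal

We use the abelian category of functors `𝒟 ⥤ C` and the property `F.map φ = 0` of functors.
-/

set_option autoImplicit false

universe w w' v v' v'' u u' u''

open CategoryTheory Category Limits CochainComplex CochainComplex.HomComplex CochainComplex.mappingCone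

namespace Groth.Agent.Krr.H500.KosEval

open Groth.Agent.Flat2H.KoszulBasic KosTransfer KosFun

variable {𝒟 : Type u} [Category.{v} 𝒟] {C : Type u'} [Category.{v'} C] [Abelian C]

/-- The functors killing `φ`. -/
def Zφ {N N' : 𝒟} (φ : N ⟶ N') (F : 𝒟 ⥤ C) : Prop := F.map φ = 0

lemma good_Zφ {N N' : 𝒟} (φ : N ⟶ N') : Good (Zφ (C := C) φ) where
  mono {F G} f hf h := by
    have : Mono (f.app N') := (NatTrans.mono_iff_mono_app f).1 hf N'
    rw [Zφ, ← cancel_mono (f.app N'), f.naturality, h, comp_zero, zero_comp]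
  biprod {F G} hF hG := by
    have h1 : (F ⊞ G).map φ = (F ⊞ G).map φ ≫ (𝟙 (F ⊞ G) : F ⊞ G ⟶ F ⊞ G).app N' := (comp_id _).symm
    rw [Zφ, h1, ← biprod.total, NatTrans.app_add, Preadditive.comp_add, NatTrans.comp_app, NatTrans.comp_app,
      ← assoc, ← assoc, NatTrans.naturality, NatTrans.naturality, hF, hG, comp_zero, comp_zero, zero_comp,
      zero_comp, add_zero]

/-- The natural transformation between evaluations. -/
noncomputable abbrev ev {N N' : 𝒟} (φ : N ⟶ N') : (evaluation 𝒟 C).obj N ⟶ (evaluation 𝒟 C).obj N' :=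
  (evaluation 𝒟 C).map φ

omit [Abelian C] in
lemma iso_comp_comp_iso_eq_zero_iff [HasZeroMorphisms C] {X X' Y Y' : C} (a : X' ≅ X) (b : Y ≅ Y') (g : X ⟶ Y) :
    a.hom ≫ g ≫ b.hom = 0 ↔ g = 0 := by
  constructor
  · intro h1
    rw [← cancel_epi a.hom, comp_zero, ← cancel_mono b.hom, zero_comp, assoc]
    exact h1
  · intro h1
    rw [h1, zero_comp, comp_zero]

lemma homology_map_eq_zero_iff {N N' : 𝒟} (φ : N ⟶ N') (K : CochainComplex (𝒟 ⥤ C) ℤ) (i : ℤ) :
    (K.homology i).map φ = 0 ↔ HomologicalComplex.homologyMap ((mn (ev φ)).app K) i = 0 := by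
  have h : (K.homology i).map φ = ((K.sc i).mapHomologyIso ((evaluation 𝒟 C).obj N)).inv ≫
      HomologicalComplex.homologyMap ((mn (ev φ)).app K) i ≫
        ((K.sc i).mapHomologyIso ((evaluation 𝒟 C).obj N')).hom :=
    NatTrans.app_homology (ev φ) (K.sc i)
  rw [h]
  exact iso_comp_comp_iso_eq_zero_iff ((K.sc i).mapHomologyIso ((evaluation 𝒟 C).obj N)).symm
    ((K.sc i).mapHomologyIso ((evaluation 𝒟 C).obj N')) _

variable {B : Type w} [CommRing B] [Linear B C]

lemma semi_ev (N : 𝒟) : Semi (id : B → B) ((evaluation 𝒟 C).obj N) := fun _ _ => rfl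

/-- **Transfer**: for a complex of functors. -/
theorem transfer_functor {l m : List B} (h : Ideal.ofList l = Ideal.ofList m)
    (K : CochainComplex (𝒟 ⥤ C) ℤ) {N N' : 𝒟} (φ : N ⟶ N')
    (hl : ∀ i : ℤ, HomologicalComplex.homologyMap (kosMap l ((mn (ev φ)).app K)) i = 0) (i : ℤ) :
    HomologicalComplex.homologyMap ((mn (ev φ)).app (kos m K)) i = 0 := by
  rw [← homology_map_eq_zero_iff]
  refine ((transfer (good_Zφ φ) h K).1 (fun i => ?_)) i
  rw [Zφ, homology_map_eq_zero_iff]
  have h1 := kosHom_natural (semi_ev (B := B) (C := C) N) (semi_ev N') (ev φ) l K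
  have h2 : List.map (id : B → B) l = l := List.map_id l
  have h3 : HomologicalComplex.homologyMap (kosMap (l.map (id : B → B)) ((mn (ev φ)).app K)) i = 0 := by
    rw [h2]; exact hl i
  rw [← cancel_mono (HomologicalComplex.homologyMap (kosHom (semi_ev (B := B) (C := C) N') l K) i),
    ← HomologicalComplex.homologyMap_comp, h1, HomologicalComplex.homologyMap_comp, h3, comp_zero, zero_comp]

end Groth.Agent.Krr.H500.KosEval
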