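import Groth.Agent.Krr.H500.KosPR
import Mathlib.Algebra.Category.ModuleCat.Monoidal.Adjunction
import Mathlib.Algebra.Category.ModuleCat.Adjunctions

/-!
# The local statement: vanishing of `H_p(L ⊗ N) ⟶ H_p(L ⊗ N')` for a resolution `L` of `(A/(a))^r`
-/

set_option autoImplicit false

universe u v w

open CategoryTheory Category Limits CochainComplex CohIII

namespace Groth.Agent.Krr.H500.KosLocal

open Groth.Agent.Flat2H.KoszulBasic KosTransfer KosFun KosEval KosMod KosPR Groth.Agent.Ega3A.Koszul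

section Single

variable {C : Type*} [Category* C] [Preadditive C] [HasZeroObject C]
  {D : Type*} [Category* D] [Preadditive D] [HasZeroObject D] {F F' : C ⥤ D} [F.Additive] [F'.Additive]

/-- Naturality in the functor of the comparison for single complexes. -/
lemma single_natural (τ : F ⟶ F') (X : C) :
    (mn τ).app ((HomologicalComplex.single C (ComplexShape.up ℤ) 0).obj X) ≫
      (HomologicalComplex.singleMapHomologicalComplex F' (ComplexShape.up ℤ) 0).hom.app X =
    (HomologicalComplex.singleMapHomologicalComplex F (ComplexShape.up ℤ) 0).hom.app X ≫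
      (HomologicalComplex.single D (ComplexShape.up ℤ) 0).map (τ.app X) := by
  ext1 n
  by_cases hn : n = 0
  · subst hn
    rw [HomologicalComplex.comp_f, HomologicalComplex.comp_f,
      HomologicalComplex.singleMapHomologicalComplex_hom_app_self,
      HomologicalComplex.singleMapHomologicalComplex_hom_app_self, HomologicalComplex.single_map_f_self]
    have key : τ.app (((HomologicalComplex.single C (ComplexShape.up ℤ) 0).obj X).X 0) ≫
        F'.map (HomologicalComplex.singleObjXSelf (ComplexShape.up ℤ) 0 X).hom ≫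
          (HomologicalComplex.singleObjXSelf (ComplexShape.up ℤ) 0 (F'.obj X)).inv =
        (F.map (HomologicalComplex.singleObjXSelf (ComplexShape.up ℤ) 0 X).hom ≫
          (HomologicalComplex.singleObjXSelf (ComplexShape.up ℤ) 0 (F.obj X)).inv) ≫
        (HomologicalComplex.singleObjXSelf (ComplexShape.up ℤ) 0 (F.obj X)).hom ≫
          τ.app X ≫ (HomologicalComplex.singleObjXSelf (ComplexShape.up ℤ) 0 (F'.obj X)).inv := by
      rw [Category.assoc, Iso.inv_hom_id_assoc, ← Category.assoc, ← Category.assoc, τ.naturality]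
    exact key
  · rw [HomologicalComplex.comp_f, HomologicalComplex.comp_f,
      HomologicalComplex.singleMapHomologicalComplex_hom_app_ne _ _ hn,
      HomologicalComplex.singleMapHomologicalComplex_hom_app_ne _ _ hn, comp_zero, zero_comp]

end Single

variable {A B : Type u} [CommRing A] [CommRing B] {σ : A →+* B}
  {𝒟 : Type v} [Category.{w} 𝒟]

lemma homologyMap_conj {C : Type*} [Category* C] [Abelian C] {K L K' L' : CochainComplex C ℤ}
    (f : K ⟶ L) (f' : K' ⟶ L') (a : K ⟶ K') (b : L ⟶ L') [IsIso b]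
    (h : f ≫ b = a ≫ f') (i : ℤ) (h' : HomologicalComplex.homologyMap f' i = 0) :
    HomologicalComplex.homologyMap f i = 0 := by
  rw [← cancel_mono (HomologicalComplex.homologyMap b i), ← HomologicalComplex.homologyMap_comp, h,
    HomologicalComplex.homologyMap_comp, h', comp_zero, zero_comp]

/-- The value of the comparison on Koszul complexes. -/
theorem vanish_kos (G : ModuleCat.{u} A ⥤ (𝒟 ⥤ ModuleCat.{u} B)) [G.Additive] (hG : Semi (⇑σ) G)
    {a : List A} {b : List B} (hab : Ideal.ofList (a.map σ) = Ideal.ofList b) {N N' : 𝒟} (φ : N ⟶ N')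
    (X : ModuleCat.{u} A) (hφ : KV b ((G.obj X).map φ)) (i : ℤ) :
    HomologicalComplex.homologyMap ((mn (Functor.whiskerLeft G (ev φ))).app (kos a ((sg A).obj X))) i = 0 := by
  let S := (sg A).obj X
  have h1 : (mn (Functor.whiskerLeft G (ev φ))).app (kos a S) = (mn (ev φ)).app ((mc G).obj (kos a S)) := rfl
  rw [h1]
  refine homologyMap_conj _ ((mn (ev φ)).app (kos (a.map σ) ((mc G).obj S)))
    ((mc ((evaluation 𝒟 (ModuleCat.{u} B)).obj N)).map (kosHom hG a S))
    ((mc ((evaluation 𝒟 (ModuleCat.{u} B)).obj N')).map (kosHom hG a S))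
    ((mn (ev φ)).naturality (kosHom hG a S)).symm i ?_
  refine transfer_functor hab.symm ((mc G).obj S) φ (fun j => ?_) i
  let αN : (mc (G ⋙ (evaluation 𝒟 (ModuleCat.{u} B)).obj N)).obj S ⟶ (sg B).obj ((G.obj X).obj N) :=
    (HomologicalComplex.singleMapHomologicalComplex (G ⋙ (evaluation 𝒟 (ModuleCat.{u} B)).obj N)
      (ComplexShape.up ℤ) 0).hom.app X
  let αN' : (mc (G ⋙ (evaluation 𝒟 (ModuleCat.{u} B)).obj N')).obj S ⟶ (sg B).obj ((G.obj X).obj N') :=
    (HomologicalComplex.singleMapHomologicalComplex (G ⋙ (evaluation 𝒟 (ModuleCat.{u} B)).obj N')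
      (ComplexShape.up ℤ) 0).hom.app X
  have hα : (mn (ev φ)).app ((mc G).obj S) ≫ αN' = αN ≫ (sg B).map ((G.obj X).map φ) :=
    single_natural (F := G ⋙ (evaluation 𝒟 (ModuleCat.{u} B)).obj N)
      (F' := G ⋙ (evaluation 𝒟 (ModuleCat.{u} B)).obj N') (Functor.whiskerLeft G (ev φ)) X
  have hi : IsIso αN' := inferInstance
  have hi' : IsIso (kosMap b αN') := by
    have : kosMap b αN' = (kosIso b (asIso αN')).hom := rfl
    rw [this]
    infer_instance
  refine homologyMap_conj _ (kosMap b ((sg B).map ((G.obj X).map φ))) (kosMap b αN) (kosMap b αN') ?_ j (hφ j)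
  exact (kosMap_comp b ((mn (ev φ)).app ((mc G).obj S)) αN').symm.trans
    ((congrArg (kosMap b) hα).trans (kosMap_comp b αN ((sg B).map ((G.obj X).map φ))))

/-- **Independence of the resolution.** -/
theorem vanish_of_res {F F' : ModuleCat.{u} A ⥤ ModuleCat.{u} B} [F.Additive] [F'.Additive] (τ : F ⟶ F')
    {M : ModuleCat.{u} A} (P L : ProjectiveResolution M) (p : ℕ)
    (h : HomologicalComplex.homologyMap
      ((NatTrans.mapHomologicalComplex τ (ComplexShape.down ℕ)).app P.complex) p = 0) :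
    HomologicalComplex.homologyMap
      ((NatTrans.mapHomologicalComplex τ (ComplexShape.down ℕ)).app L.complex) p = 0 := by
  have h1 := P.leftDerived_app_eq τ p
  have h2 := L.leftDerived_app_eq τ p
  have h3 : (NatTrans.leftDerived τ p).app M = 0 := by
    rw [h1]
    change _ ≫ HomologicalComplex.homologyMap _ p ≫ _ = 0
    rw [h, zero_comp, comp_zero]
  rw [h2] at h3
  exact (iso_comp_comp_iso_eq_zero_iff (L.isoLeftDerivedObj F p) (L.isoLeftDerivedObj F' p).symm _).1 h3

/-- The local theorem, general form. -/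
theorem vanish_general (G : ModuleCat.{u} A ⥤ (𝒟 ⥤ ModuleCat.{u} B)) [G.Additive] (hG : Semi (⇑σ) G)
    {a : List A} {b : List B} (ha : LCI.IsKoszulRegularSeq A a)
    (hab : Ideal.ofList (a.map σ) = Ideal.ofList b) {r : ℕ} {M : ModuleCat.{u} A}
    (e : M ≃ₗ[A] (Fin r → A ⧸ Ideal.span {x | x ∈ a})) {N N' : 𝒟} (φ : N ⟶ N')
    (hφ : KV b ((G.obj (ModuleCat.of A (Fin r → A))).map φ)) (L : ProjectiveResolution M) (p : ℕ) :
    HomologicalComplex.homologyMap
      ((NatTrans.mapHomologicalComplex (Functor.whiskerLeft G (ev φ)) (ComplexShape.down ℕ)).app L.complex) p = 0 := by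
  obtain ⟨P, hP⟩ := exists_koszulRes a ha r M e
  refine vanish_of_res (Functor.whiskerLeft G (ev φ)) P L p ?_
  rw [hP]
  let K := kos a ((sg A).obj (ModuleCat.of A (Fin r → A)))
  change HomologicalComplex.homologyMap (rstMap ((mn (Functor.whiskerLeft G (ev φ))).app K)) p = 0
  refine restrict_vanish _ ?_ p (vanish_kos G hG hab φ _ hφ _)
  have hK : IsZero (K.X 1) := isZero_kos_X a
    (fun n hn => HomologicalComplex.isZero_single_obj_X (ComplexShape.up ℤ) 0 _ n (by omega)) 1 one_pos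
  exact (G ⋙ (evaluation 𝒟 (ModuleCat.{u} B)).obj N).map_isZero hK

section Ext

open MonoidalCategory

variable (σ) in
/-- `W ↦ (N ↦ N ⊗ (B ⊗_A W))` -/
noncomputable def Gx : ModuleCat.{u} A ⥤ (ModuleCat.{u} B ⥤ ModuleCat.{u} B) :=
  ModuleCat.extendScalars.{u, u, u} σ ⋙ tensoringRight (ModuleCat.{u} B)

instance : (Gx σ).Additive where
  map_add {X Y f g} := by
    ext N : 2
    change N ◁ (ModuleCat.extendScalars.{u, u, u} σ).map (f + g) =
      N ◁ (ModuleCat.extendScalars.{u, u, u} σ).map f + N ◁ (ModuleCat.extendScalars.{u, u, u} σ).map g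
    rw [Functor.map_add, MonoidalPreadditive.whiskerLeft_add]

lemma ext_map_smul (a : A) (X : ModuleCat.{u} A) :
    (ModuleCat.extendScalars.{u, u, u} σ).map (a • 𝟙 X) = σ a • 𝟙 _ := by
  let := σ.toAlgebra
  ext x
  change ((ModuleCat.extendScalars.{u, u, u} σ).map (a • 𝟙 X)).hom ((1 : B) ⊗ₜ[A] x) = σ a • ((1 : B) ⊗ₜ[A] x)
  change (1 : B) ⊗ₜ[A] (a • x) = σ a • ((1 : B) ⊗ₜ[A] x)
  rw [TensorProduct.tmul_smul]
  rfl

lemma semi_Gx : Semi (⇑σ) (Gx σ) := by
  intro a X
  ext N : 2
  change N ◁ (ModuleCat.extendScalars.{u, u, u} σ).map (a • 𝟙 X) = σ a • 𝟙 _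
  rw [ext_map_smul, MonoidalLinear.whiskerLeft_smul, MonoidalCategory.whiskerLeft_id]
  rfl

/-- `G(A) ≅ id` -/
noncomputable def gxUnit : (Gx σ).obj (ModuleCat.of A A) ≅ 𝟭 (ModuleCat.{u} B) :=
  (tensoringRight (ModuleCat.{u} B)).mapIso (Functor.Monoidal.εIso (ModuleCat.extendScalars.{u, u, u} σ)).symm ≪≫
    rightUnitorNatIso (ModuleCat.{u} B)

lemma kv_unit {b : List B} {N N' : ModuleCat.{u} B} (φ : N ⟶ N') (h : KV b φ) :
    KV b (((Gx σ).obj (ModuleCat.of A A)).map φ) := by
  have h1 : ((Gx σ).obj (ModuleCat.of A A)).map φ = (gxUnit (σ := σ)).hom.app N ≫ φ ≫ (gxUnit (σ := σ)).inv.app N' := by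
    have h2 : ((Gx σ).obj (ModuleCat.of A A)).map φ ≫ (gxUnit (σ := σ)).hom.app N' =
      (gxUnit (σ := σ)).hom.app N ≫ φ := (gxUnit (σ := σ)).hom.naturality φ
    rw [← Category.assoc, ← h2, Category.assoc, Iso.hom_inv_id_app, comp_id]
  rw [h1]
  exact (h.comp_right _).comp_left _

lemma id_pi (r : ℕ) : (𝟙 (ModuleCat.of A (Fin r → A)) : ModuleCat.of A (Fin r → A) ⟶ ModuleCat.of A (Fin r → A)) =
    ∑ i : Fin r, (ModuleCat.ofHom (LinearMap.proj i) : ModuleCat.of A (Fin r → A) ⟶ ModuleCat.of A A) ≫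
      (ModuleCat.ofHom (LinearMap.single A (fun _ => A) i) : ModuleCat.of A A ⟶ ModuleCat.of A (Fin r → A)) := by
  apply ModuleCat.hom_ext
  rw [ModuleCat.hom_sum]
  ext x j
  simp [Pi.single_apply]

lemma kv_free {b : List B} {N N' : ModuleCat.{u} B} (φ : N ⟶ N') (h : KV b φ) (r : ℕ) :
    KV b (((Gx σ).obj (ModuleCat.of A (Fin r → A))).map φ) := by
  let X := ModuleCat.of A (Fin r → A)
  let p : Fin r → (X ⟶ ModuleCat.of A A) := fun i => ModuleCat.ofHom (LinearMap.proj i)
  let q : Fin r → (ModuleCat.of A A ⟶ X) := fun i => ModuleCat.ofHom (LinearMap.single A (fun _ => A) i)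
  have h1 : ((Gx σ).map (𝟙 X)).app N' = ∑ i : Fin r, ((Gx σ).map (p i)).app N' ≫ ((Gx σ).map (q i)).app N' := by
    have h2 : 𝟙 X = ∑ i : Fin r, p i ≫ q i := id_pi r
    rw [h2, Functor.map_sum, NatTrans.app_sum]
    refine Finset.sum_congr rfl fun i _ => ?_
    rw [Functor.map_comp, NatTrans.comp_app]
  have h3 : ((Gx σ).obj X).map φ = ∑ i : Fin r, ((Gx σ).map (p i)).app N ≫
      ((Gx σ).obj (ModuleCat.of A A)).map φ ≫ ((Gx σ).map (q i)).app N' := by
    have h4 : ((Gx σ).obj X).map φ = ((Gx σ).obj X).map φ ≫ ((Gx σ).map (𝟙 X)).app N' := by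
      rw [(Gx σ).map_id, NatTrans.id_app, comp_id]
    rw [h4, h1, Preadditive.comp_sum]
    refine Finset.sum_congr rfl fun i _ => ?_
    rw [← Category.assoc, ((Gx σ).map (p i)).naturality, Category.assoc]
  rw [h3]
  exact KV.sum _ fun i _ => ((kv_unit φ h).comp_right _).comp_left _

/-- **The local theorem.** -/
theorem vanish_ext {a : List A} {b : List B} (ha : LCI.IsKoszulRegularSeq A a)
    (hab : Ideal.ofList (a.map σ) = Ideal.ofList b) {r : ℕ} {M : ModuleCat.{u} A}
    (e : M ≃ₗ[A] (Fin r → A ⧸ Ideal.span {x | x ∈ a})) {N N' : ModuleCat.{u} B} (φ : N ⟶ N')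
    (hφ : ∀ i : ℤ, HomologicalComplex.homologyMap (kMap φ b) i = 0) (L : ProjectiveResolution M) (p : ℕ) :
    HomologicalComplex.homologyMap
      ((NatTrans.mapHomologicalComplex (Functor.whiskerLeft (Gx σ) (ev φ)) (ComplexShape.down ℕ)).app L.complex) p = 0 :=
  vanish_general (Gx σ) semi_Gx ha hab e φ (kv_free φ ((kv_iff b φ).2 hφ) r) L p

end Ext

end Groth.Agent.Krr.H500.KosLocal
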