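import Groth.Agent.Krr.H500.KosEval
import Groth.Agent.Sga67.TorKoszul

/-!
# Comparison of `koszulCx` with `kos`; stability of the vanishing of maps on Koszul homology
-/

set_option autoImplicit false

universe u v

open CategoryTheory Category Limits CochainComplex CochainComplex.HomComplex CochainComplex.mappingCone CohIII

namespace Groth.Agent.Krr.H500.KosMod

open Groth.Agent.Flat2H.KoszulBasic KosTransfer KosFun KosEval Groth.Agent.Ega3A.Koszul

variable {A : Type u} [CommRing A]

/-- The complex concentrated in degree `0`. -/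
noncomputable abbrev sg (A : Type u) [CommRing A] : ModuleCat.{u} A ⥤ CochainComplex (ModuleCat.{u} A) ℤ :=
  HomologicalComplex.single (ModuleCat.{u} A) (ComplexShape.up ℤ) 0

/-- `koszulCx M l ⟶ kos l M[0]` -/
noncomputable def kHom (M : ModuleCat.{u} A) : ∀ l : List A, koszulCx M l ⟶ kos l ((sg A).obj M)
  | [] => 𝟙 ((sg A).obj M)
  | f :: l => mappingCone.map (f • 𝟙 (koszulCx M l)) (f • 𝟙 (kos l ((sg A).obj M))) (kHom M l) (kHom M l)
      (by simp)

instance isIso_kHom (M : ModuleCat.{u} A) (l : List A) : IsIso (kHom M l) := by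
  induction l with
  | nil => exact inferInstanceAs (IsIso (𝟙 ((sg A).obj M)))
  | cons f l ih => exact isIso_map (f • 𝟙 (koszulCx M l)) (f • 𝟙 (kos l ((sg A).obj M))) _ _ (by simp)

lemma kHom_natural {M N : ModuleCat.{u} A} (g : M ⟶ N) (l : List A) :
    kMap g l ≫ kHom N l = kHom M l ≫ kosMap l ((sg A).map g) := by
  induction l with
  | nil => exact (comp_id ((sg A).map g)).trans (id_comp ((sg A).map g)).symm
  | cons f l ih =>
    change mappingCone.map (f • 𝟙 (koszulCx M l)) (f • 𝟙 (koszulCx N l)) (kMap g l) (kMap g l) (by simp) ≫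
      mappingCone.map (f • 𝟙 (koszulCx N l)) (f • 𝟙 (kos l ((sg A).obj N))) (kHom N l) (kHom N l) (by simp) =
      mappingCone.map (f • 𝟙 (koszulCx M l)) (f • 𝟙 (kos l ((sg A).obj M))) (kHom M l) (kHom M l) (by simp) ≫
      mappingCone.map (f • 𝟙 (kos l ((sg A).obj M))) (f • 𝟙 (kos l ((sg A).obj N)))
        (kosMap l ((sg A).map g)) (kosMap l ((sg A).map g)) (by simp)
    rw [← mappingCone.map_comp, ← mappingCone.map_comp]
    exact map_congr _ _ ih ih

/-- The map induced by `g` on all Koszul homology modules vanishes. -/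
def KV (l : List A) {M N : ModuleCat.{u} A} (g : M ⟶ N) : Prop :=
  ∀ i : ℤ, HomologicalComplex.homologyMap (kosMap l ((sg A).map g)) i = 0

lemma kv_iff (l : List A) {M N : ModuleCat.{u} A} (g : M ⟶ N) :
    KV l g ↔ ∀ i : ℤ, HomologicalComplex.homologyMap (kMap g l) i = 0 := by
  have key : ∀ i : ℤ, HomologicalComplex.homologyMap (kMap g l) i ≫ HomologicalComplex.homologyMap (kHom N l) i =
      HomologicalComplex.homologyMap (kHom M l) i ≫ HomologicalComplex.homologyMap (kosMap l ((sg A).map g)) i := by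
    intro i
    rw [← HomologicalComplex.homologyMap_comp, ← HomologicalComplex.homologyMap_comp, kHom_natural]
  constructor
  · intro h i
    rw [← cancel_mono (HomologicalComplex.homologyMap (kHom N l) i), key, h i, comp_zero, zero_comp]
  · intro h i
    rw [← cancel_epi (HomologicalComplex.homologyMap (kHom M l) i), ← key, h i, comp_zero, zero_comp]

lemma kosMap_eq_kMap {M N : ModuleCat.{u} A} (g : M ⟶ N) (l : List A) :
    kosMap l ((sg A).map g) = inv (kHom M l) ≫ kMap g l ≫ kHom N l := by
  rw [kHom_natural, IsIso.inv_hom_id_assoc]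

lemma KV.comp_left {l : List A} {M N P : ModuleCat.{u} A} {g : N ⟶ P} (h : KV l g) (f : M ⟶ N) :
    KV l (f ≫ g) := fun i => by
  rw [Functor.map_comp, kosMap_comp, HomologicalComplex.homologyMap_comp, h i, comp_zero]

lemma KV.comp_right {l : List A} {M N P : ModuleCat.{u} A} {g : M ⟶ N} (h : KV l g) (f : N ⟶ P) :
    KV l (g ≫ f) := fun i => by
  rw [Functor.map_comp, kosMap_comp, HomologicalComplex.homologyMap_comp, h i, zero_comp]

lemma map_add_add {K₁ L₁ K₂ L₂ : CochainComplex (ModuleCat.{u} A) ℤ} (φ₁ : K₁ ⟶ L₁) (φ₂ : K₂ ⟶ L₂)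
    (a a' : K₁ ⟶ K₂) (b b' : L₁ ⟶ L₂) (comm : φ₁ ≫ b = a ≫ φ₂) (comm' : φ₁ ≫ b' = a' ≫ φ₂)
    (h : φ₁ ≫ (b + b') = (a + a') ≫ φ₂) :
    mappingCone.map φ₁ φ₂ (a + a') (b + b') h =
      mappingCone.map φ₁ φ₂ a b comm + mappingCone.map φ₁ φ₂ a' b' comm' := by
  ext1 n
  rw [mappingCone.ext_from_iff _ (n + 1) n rfl]
  constructor
  · rw [inl_map, HomologicalComplex.add_f_apply, HomologicalComplex.add_f_apply, Preadditive.add_comp,
      Preadditive.comp_add, inl_map, inl_map]
  · rw [inr_map, HomologicalComplex.add_f_apply, HomologicalComplex.add_f_apply, Preadditive.add_comp,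
      Preadditive.comp_add, inr_map, inr_map]

lemma kMap_add {M N : ModuleCat.{u} A} (g h : M ⟶ N) (l : List A) : kMap (g + h) l = kMap g l + kMap h l := by
  induction l with
  | nil => exact (HomologicalComplex.single (ModuleCat.{u} A) (ComplexShape.up ℤ) 0).map_add
  | cons f l ih =>
    simp only [kMap, ih]
    exact map_add_add _ _ _ _ _ _ _ _ _

lemma KV.add {l : List A} {M N : ModuleCat.{u} A} {g h : M ⟶ N} (hg : KV l g) (hh : KV l h) :
    KV l (g + h) := by
  rw [kv_iff] at *
  intro i
  rw [kMap_add, HomologicalComplex.homologyMap_add, hg i, hh i, add_zero]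

lemma KV.zero (l : List A) (M N : ModuleCat.{u} A) : KV l (0 : M ⟶ N) := by
  rw [kv_iff]
  intro i
  rw [kMap_zero, HomologicalComplex.homologyMap_zero]

lemma KV.sum {l : List A} {M N : ModuleCat.{u} A} {ι : Type*} (s : Finset ι) {g : ι → (M ⟶ N)}
    (h : ∀ i ∈ s, KV l (g i)) : KV l (∑ i ∈ s, g i) := by
  classical
  induction s using Finset.induction_on with
  | empty => rw [Finset.sum_empty]; exact KV.zero l M N
  | insert a s ha ih =>
    rw [Finset.sum_insert ha]
    exact KV.add (h a (Finset.mem_insert_self a s)) (ih fun i hi => h i (Finset.mem_insert_of_mem hi))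

end Groth.Agent.Krr.H500.KosMod
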