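import Groth.Agent.Krr.H500.KosMod
import Groth.Agent.Krr.H498.ResCat
import Mathlib.Algebra.Homology.Embedding.Restriction
import Mathlib.Algebra.Homology.Embedding.Basic
import Mathlib.CategoryTheory.Abelian.LeftDerived

/-!
# Projective resolutions from Koszul complexes; restriction to `ChainComplex _ ℕ`
-/

set_option autoImplicit false

universe u v w

open CategoryTheory Category Limits CochainComplex CohIII

namespace Groth.Agent.Krr.H500.KosPR

open Groth.Agent.Flat2H.KoszulBasic KosTransfer KosFun KosEval KosMod Groth.Agent.Ega3A.Koszul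
open Groth.Agent.Krr.H498.ResCat

section Restrict

variable {C : Type u} [Category.{v} C] [Abelian C]

/-- The restriction of a complex to degrees `≤ 0`, as a chain complex. -/
noncomputable abbrev rst (K : CochainComplex C ℤ) : ChainComplex C ℕ :=
  K.restriction ComplexShape.embeddingDownNat

/-- The restriction of a morphism. -/
noncomputable abbrev rstMap {K L : CochainComplex C ℤ} (ψ : K ⟶ L) : rst K ⟶ rst L :=
  HomologicalComplex.restrictionMap ψ ComplexShape.embeddingDownNat

lemma homologyMap_eq_zero_iff' {ι : Type*} {c : ComplexShape ι} {K L : HomologicalComplex C c} (ψ : K ⟶ L)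
    (i j k : ι) (hi : c.prev j = i) (hk : c.next j = k) :
    HomologicalComplex.homologyMap ψ j = 0 ↔
      ShortComplex.homologyMap ((HomologicalComplex.shortComplexFunctor' C c i j k).map ψ) = 0 := by
  have h := (HomologicalComplex.natIsoSc' C c i j k hi hk).hom.naturality ψ
  have h1 := congrArg (ShortComplex.homologyFunctor C).map h
  rw [Functor.map_comp, Functor.map_comp] at h1
  constructor
  · intro h0
    have h0' : (ShortComplex.homologyFunctor C).map ((HomologicalComplex.shortComplexFunctor C c j).map ψ) = 0 := h0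
    rw [h0', zero_comp] at h1
    change (ShortComplex.homologyFunctor C).map ((HomologicalComplex.shortComplexFunctor' C c i j k).map ψ) = 0
    rw [← cancel_epi ((ShortComplex.homologyFunctor C).map ((HomologicalComplex.natIsoSc' C c i j k hi hk).hom.app K)),
      ← h1, comp_zero]
  · intro h0
    change (ShortComplex.homologyFunctor C).map ((HomologicalComplex.shortComplexFunctor C c j).map ψ) = 0
    have h0' : (ShortComplex.homologyFunctor C).map
      ((HomologicalComplex.shortComplexFunctor' C c i j k).map ψ) = 0 := h0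
    rw [h0', comp_zero] at h1
    rw [← cancel_mono ((ShortComplex.homologyFunctor C).map ((HomologicalComplex.natIsoSc' C c i j k hi hk).hom.app L)),
      h1, zero_comp]

lemma up_prev (n : ℤ) : (ComplexShape.up ℤ).prev n = n - 1 := by simp
lemma up_next (n : ℤ) : (ComplexShape.up ℤ).next n = n + 1 := by simp

lemma down_prev (n : ℕ) : (ComplexShape.down ℕ).prev n = n + 1 := by simp
lemma down_next_succ (n : ℕ) : (ComplexShape.down ℕ).next (n + 1) = n := by simp
lemma down_next_zero : (ComplexShape.down ℕ).next 0 = 0 := by simp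

/-- comparison in degree `0` -/
noncomputable def αz (K : CochainComplex C ℤ) :
    K.sc' (ComplexShape.embeddingDownNat.f 1) (ComplexShape.embeddingDownNat.f 0) 1 ⟶ (rst K).sc' 1 0 0 where
  τ₁ := 𝟙 _
  τ₂ := 𝟙 _
  τ₃ := 0
  comm₁₂ := by
    change 𝟙 (K.X _) ≫ K.d _ _ = K.d _ _ ≫ 𝟙 (K.X _)
    rw [id_comp, comp_id]
  comm₂₃ := by
    change 𝟙 (K.X _) ≫ K.d _ _ = _ ≫ 0
    rw [comp_zero, id_comp]
    exact K.shape _ _ (by simp)

lemma quasiIso_αz (K : CochainComplex C ℤ) (hK : IsZero (K.X 1)) : ShortComplex.QuasiIso (αz K) := by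
  have h1 : Epi (αz K).τ₁ := inferInstanceAs (Epi (𝟙 _))
  have h2 : IsIso (αz K).τ₂ := inferInstanceAs (IsIso (𝟙 _))
  have h3 : Mono (αz K).τ₃ := Preadditive.mono_of_cancel_zero _ fun g _ => hK.eq_of_tgt g 0
  exact ShortComplex.quasiIso_of_epi_of_isIso_of_mono (αz K)

lemma αz_natural {K L : CochainComplex C ℤ} (ψ : K ⟶ L) :
    (HomologicalComplex.shortComplexFunctor' C (ComplexShape.up ℤ) (ComplexShape.embeddingDownNat.f 1)
      (ComplexShape.embeddingDownNat.f 0) 1).map ψ ≫ αz L =
      αz K ≫ (HomologicalComplex.shortComplexFunctor' C (ComplexShape.down ℕ) 1 0 0).map (rstMap ψ) := by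
  ext1
  · change ψ.f _ ≫ 𝟙 _ = 𝟙 _ ≫ ψ.f _
    rw [id_comp, comp_id]
  · change ψ.f _ ≫ 𝟙 _ = 𝟙 _ ≫ ψ.f _
    rw [id_comp, comp_id]
  · change ψ.f _ ≫ 0 = 0 ≫ ψ.f _
    rw [zero_comp, comp_zero]

lemma restrict_vanish {K L : CochainComplex C ℤ} (ψ : K ⟶ L) (hK : IsZero (K.X 1)) (p : ℕ)
    (h : HomologicalComplex.homologyMap ψ (ComplexShape.embeddingDownNat.f p) = 0) :
    HomologicalComplex.homologyMap (rstMap ψ) p = 0 := by
  cases p with
  | zero =>
    rw [homologyMap_eq_zero_iff' _ 1 0 0 (down_prev 0) down_next_zero]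
    rw [homologyMap_eq_zero_iff' ψ (ComplexShape.embeddingDownNat.f 1) (ComplexShape.embeddingDownNat.f 0) 1
      (by simp) (by simp)] at h
    have h1 := congrArg (ShortComplex.homologyFunctor C).map (αz_natural ψ)
    have h0 : (ShortComplex.homologyFunctor C).map ((HomologicalComplex.shortComplexFunctor' C (ComplexShape.up ℤ)
      (ComplexShape.embeddingDownNat.f 1) (ComplexShape.embeddingDownNat.f 0) 1).map ψ) = 0 := h
    rw [Functor.map_comp, Functor.map_comp, h0, zero_comp] at h1
    have i1 := quasiIso_αz K hK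
    have i2 : IsIso ((ShortComplex.homologyFunctor C).map (αz K)) := (ShortComplex.quasiIso_iff _).1 i1
    change (ShortComplex.homologyFunctor C).map
      ((HomologicalComplex.shortComplexFunctor' C (ComplexShape.down ℕ) 1 0 0).map (rstMap ψ)) = 0
    rw [← cancel_epi ((ShortComplex.homologyFunctor C).map (αz K)), ← h1, comp_zero]
  | succ n =>
    rw [homologyMap_eq_zero_iff' _ (n + 2) (n + 1) n (down_prev (n + 1)) (down_next_succ n)]
    rw [homologyMap_eq_zero_iff' ψ (ComplexShape.embeddingDownNat.f (n + 2))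
      (ComplexShape.embeddingDownNat.f (n + 1)) (ComplexShape.embeddingDownNat.f n)
      (by simp; ring) (by simp)] at h
    exact h

lemma exact_comp_iso {A B K K' : C} {f : A ⟶ B} {g : B ⟶ K} {w : f ≫ g = 0}
    (h : (ShortComplex.mk f g w).Exact) (e : K ≅ K') (w' : f ≫ g ≫ e.hom = 0) :
    (ShortComplex.mk f (g ≫ e.hom) w').Exact := by
  have φ : ShortComplex.mk f g w ≅ ShortComplex.mk f (g ≫ e.hom) w' :=
    ShortComplex.isoMk (Iso.refl _) (Iso.refl _) e (by simp) (by simp)
  exact (ShortComplex.exact_iff_of_iso φ).1 h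

/-- A complex of projectives in degrees `≤ 0`, exact in degrees `< 0`, is a projective resolution of `H^0`. -/
theorem exists_projRes (K : CochainComplex C ℤ) (h1 : IsZero (K.X 1)) (hp : ∀ n, Projective (K.X n))
    (h0 : ∀ n : ℤ, n < 0 → IsZero (K.homology n)) {M : C} (e : K.homology 0 ≅ M) :
    ∃ P : ProjectiveResolution M, P.complex = rst K := by
  have hz : ComplexShape.embeddingDownNat.f 0 = 0 := by simp
  have hd : K.d (ComplexShape.embeddingDownNat.f 0) 1 = 0 := h1.eq_of_tgt _ _
  let e' : K.opcycles (ComplexShape.embeddingDownNat.f 0) ≅ M :=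
    (K.isoHomologyι (ComplexShape.embeddingDownNat.f 0) 1 (by simp) hd).symm ≪≫
      eqToIso (by rw [hz]) ≪≫ e
  let f : (rst K).X 0 ⟶ M := K.pOpcycles (ComplexShape.embeddingDownNat.f 0) ≫ e'.hom
  have hE : Epi (K.pOpcycles (ComplexShape.embeddingDownNat.f 0)) := inferInstance
  have hE' : Epi (K.pOpcycles (ComplexShape.embeddingDownNat.f 0) ≫ e'.hom) := epi_comp _ _
  have hf : (rst K).d 1 0 ≫ f = 0 := by
    change K.d _ _ ≫ K.pOpcycles _ ≫ _ = 0
    rw [K.d_pOpcycles_assoc, zero_comp]
  have hex : (ShortComplex.mk (K.d (ComplexShape.embeddingDownNat.f 1) (ComplexShape.embeddingDownNat.f 0))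
      (K.pOpcycles (ComplexShape.embeddingDownNat.f 0)) (K.d_pOpcycles _ _)).Exact :=
    ShortComplex.exact_of_g_is_cokernel _ (K.opcyclesIsCokernel _ _ (by simp))
  have hq : QuasiIso (mkAug (rst K) f hf) := by
    rw [Groth.Agent.Krr.H498.ResCat.quasiIso_iff]
    refine ex_mkAug _ _ _ (fun i => ?_) ?_ ?_
    · have hx : K.ExactAt (ComplexShape.embeddingDownNat.f (i + 1)) := by
        rw [HomologicalComplex.exactAt_iff_isZero_homology]
        refine h0 _ ?_
        change -((i + 1 : ℕ) : ℤ) < 0
        omega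
      rw [HomologicalComplex.exactAt_iff' _ (ComplexShape.embeddingDownNat.f (i + 2))
        (ComplexShape.embeddingDownNat.f (i + 1)) (ComplexShape.embeddingDownNat.f i) (by simp; ring) (by simp)] at hx
      exact hx
    · exact exact_comp_iso hex e' hf
    · exact hE'
  exact ⟨{ complex := rst K
           projective := fun n => hp _
           π := mkAug (rst K) f hf
           quasiIso := hq }, rfl⟩

end Restrict

section Proj

variable {A : Type w} [CommRing A] {C : Type u} [Category.{v} C] [Abelian C] [Linear A C]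

lemma projective_kos (l : List A) {K : CochainComplex C ℤ} (hK : ∀ n, Projective (K.X n)) (n : ℤ) :
    Projective ((kos l K).X n) := by
  induction l generalizing n with
  | nil => exact hK n
  | cons f l ih =>
    have h1 := ih n
    have h2 := ih (n + 1)
    exact Projective.of_iso (HomologicalComplex.homotopyCofiber.XIsoBiprod (f • 𝟙 (kos l K)) n (n + 1) rfl).symm
      inferInstance

lemma isZero_kos_X (l : List A) {K : CochainComplex C ℤ} (hK : ∀ n : ℤ, 0 < n → IsZero (K.X n)) (n : ℤ)
    (hn : 0 < n) : IsZero ((kos l K).X n) := by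
  induction l generalizing n with
  | nil => exact hK n hn
  | cons f l ih =>
    have h1 := ih n hn
    have h2 := ih (n + 1) (by omega)
    have h3 : IsZero ((kos l K).X (n + 1) ⊞ (kos l K).X n) := by
      rw [IsZero.iff_id_eq_zero]
      ext1
      · exact h2.eq_of_src _ _
      · exact h1.eq_of_src _ _
    exact h3.of_iso (HomologicalComplex.homotopyCofiber.XIsoBiprod (f • 𝟙 (kos l K)) n (n + 1) rfl)

end Proj

section Mod

variable {A : Type u} [CommRing A]

/-- The projective resolution of `(A/(a))^r` given by the Koszul complex of a Koszul-regular list. -/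
theorem exists_koszulRes (a : List A) (ha : LCI.IsKoszulRegularSeq A a) (r : ℕ) (M : ModuleCat.{u} A)
    (e : M ≃ₗ[A] (Fin r → A ⧸ Ideal.span {x | x ∈ a})) :
    ∃ P : ProjectiveResolution M, P.complex = rst (kos a ((sg A).obj (ModuleCat.of A (Fin r → A)))) := by
  have hk : ∀ i, (koszulCx (ModuleCat.of A (Fin r → A)) a).homology i ≅
      (kos a ((sg A).obj (ModuleCat.of A (Fin r → A)))).homology i := fun i =>
    (HomologicalComplex.homologyFunctor _ _ i).mapIso (asIso (kHom (ModuleCat.of A (Fin r → A)) a))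
  have hX : ∀ n : ℤ, Projective (((sg A).obj (ModuleCat.of A (Fin r → A))).X n) := by
    intro n
    by_cases hn : n = 0
    · subst hn
      have hp : Projective (ModuleCat.of A (Fin r → A)) := (IsProjective.iff_projective _).1 inferInstance
      exact Projective.of_iso (HomologicalComplex.singleObjXSelf (ComplexShape.up ℤ) 0 _).symm hp
    · have hz := HomologicalComplex.isZero_single_obj_X (ComplexShape.up ℤ) 0 (ModuleCat.of A (Fin r → A)) n hn
      exact Projective.of_iso (isZero_zero _ |>.iso hz) inferInstance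
  refine exists_projRes _ ?_ (projective_kos a hX) ?_ ?_
  · refine isZero_kos_X a (fun n hn => ?_) 1 one_pos
    exact HomologicalComplex.isZero_single_obj_X (ComplexShape.up ℤ) 0 _ n (by omega)
  · intro n hn
    exact (Groth.Agent.Sga67.KoszulFun.isZero_homology_of_flat a ha (ModuleCat.of A (Fin r → A)) n
      (by omega)).of_iso (hk n).symm
  · refine (hk 0).symm ≪≫ LinearEquiv.toModuleIso (X₁ := (koszulCx (ModuleCat.of A (Fin r → A)) a).homology 0)
      ((Groth.Agent.Sga67.TorKoszul.eEquiv (ModuleCat.of A (Fin r → A)) a).symm ≪≫ₗ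
        TensorProduct.piScalarRight A A (A ⧸ Ideal.span {x | x ∈ a}) (Fin r) ≪≫ₗ e.symm)

end Mod

end Groth.Agent.Krr.H500.KosPR
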