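import Groth.Agent.Flat2H.KoszulBasic

/-!
# Transfer of properties of Koszul homology between lists generating the same ideal

`C` is an abelian `A`-linear category, `Z` a property of objects stable under subobjects and binary
biproducts.  If two lists `l`, `m` generate the same ideal then the homology objects of `kos l K` all have `Z`
iff those of `kos m K` do.
-/

set_option autoImplicit false

universe w v u

open CategoryTheory Category Limits CochainComplex CochainComplex.HomComplex CochainComplex.mappingCone

namespace Groth.Agent.Krr.H500.KosTransfer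

open Groth.Agent.Flat2H.KoszulBasic

variable {A : Type w} [CommRing A] {C : Type u} [Category.{v} C] [Abelian C] [Linear A C]

/-- A property of objects stable under subobjects and binary biproducts. -/
structure Good (Z : C → Prop) : Prop where
  mono : ∀ {X Y : C} (f : X ⟶ Y) [Mono f], Z Y → Z X
  biprod : ∀ {X Y : C}, Z X → Z Y → Z (X ⊞ Y)

/-- All homology objects of `K` have the property `Z`. -/
def ZH (Z : C → Prop) (K : CochainComplex C ℤ) : Prop := ∀ i : ℤ, Z (K.homology i)

variable {Z : C → Prop} (hZ : Good Z)

include hZ in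
lemma ZH_of_iso {K L : CochainComplex C ℤ} (e : K ≅ L) (h : ZH Z K) : ZH Z L := fun i =>
  hZ.mono ((HomologicalComplex.homologyFunctor C _ i).mapIso e).inv (h i)

include hZ in
lemma ZH_cone1_iff {K : CochainComplex C ℤ} {z : A} (hK : NullH K z) : ZH Z (cone1 z K) ↔ ZH Z K := by
  obtain ⟨r, hr⟩ := hK.exists_retraction
  have hret : ∀ i, HomologicalComplex.homologyMap (inr (z • 𝟙 K)) i ≫ HomologicalComplex.homologyMap r i = 𝟙 _ := by
    intro i
    rw [← HomologicalComplex.homologyMap_comp, hr, HomologicalComplex.homologyMap_id]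
  have hm : ∀ i, Mono (HomologicalComplex.homologyMap (inr (z • 𝟙 K)) i) := fun i =>
    (SplitMono.mk _ (hret i)).mono
  constructor
  · intro h i
    exact hZ.mono (HomologicalComplex.homologyMap (inr (z • 𝟙 K)) i) (h i)
  · intro h i
    have : Mono (biprod.lift (HomologicalComplex.homologyMap r i) (coneδ (z • 𝟙 K) i (i + 1) rfl)) := by
      refine Preadditive.mono_of_cancel_zero _ fun {G} g hg => ?_
      have h1 : g ≫ HomologicalComplex.homologyMap r i = 0 := by
        have := congrArg (fun t => t ≫ biprod.fst) hg
        simpa using this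
      have h2 : g ≫ coneδ (z • 𝟙 K) i (i + 1) rfl = 0 := by
        have := congrArg (fun t => t ≫ biprod.snd) hg
        simpa using this
      have : Mono (ShortComplex.mk _ _ (cone_w₃ (z • 𝟙 K) i (i + 1) rfl)).f := hm i
      have h3 := (cone_exact₃ (z • 𝟙 K) i (i + 1) rfl).lift_f g h2
      have h4 : (cone_exact₃ (z • 𝟙 K) i (i + 1) rfl).lift g h2 = 0 := by
        have h5 := congrArg (fun t => t ≫ HomologicalComplex.homologyMap r i) h3
        simp only [assoc, h1] at h5
        erw [hret i] at h5
        rwa [comp_id] at h5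
      rw [← h3, h4, zero_comp]
    exact hZ.mono (biprod.lift (HomologicalComplex.homologyMap r i) (coneδ (z • 𝟙 K) i (i + 1) rfl))
      (hZ.biprod (h i) (h (i + 1)))

include hZ in
lemma ZH_kos_iff {K : CochainComplex C ℤ} (l : List A) (hK : ∀ z ∈ l, NullH K z) :
    ZH Z (kos l K) ↔ ZH Z K := by
  induction l with
  | nil => exact Iff.rfl
  | cons x l ih =>
    rw [kos_cons, ZH_cone1_iff hZ (nullH_kos (hK x (by simp)) l)]
    exact ih fun z hz => hK z (by simp [hz])

include hZ in
/-- **Transfer.** -/
theorem transfer {l m : List A} (h : Ideal.ofList l = Ideal.ofList m) (K : CochainComplex C ℤ) :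
    ZH Z (kos l K) ↔ ZH Z (kos m K) := by
  have key : ∀ l m : List A, Ideal.ofList l = Ideal.ofList m → ZH Z (kos l K) → ZH Z (kos m K) := by
    intro l m h hl
    have h1 : ZH Z (kos (m ++ l) K) := by
      rw [kos_append]
      refine (ZH_kos_iff hZ m fun z hz => nullH_kos_of_mem l K z ?_).2 hl
      rw [h]
      exact Ideal.subset_span hz
    have h2 : ZH Z (kos (l ++ m) K) := by
      obtain ⟨e⟩ := nonempty_kosIso_of_perm (List.perm_append_comm (l₁ := m) (l₂ := l)) K
      exact ZH_of_iso hZ e h1
    rw [kos_append] at h2
    refine (ZH_kos_iff hZ l fun z hz => nullH_kos_of_mem m K z ?_).1 h2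
    rw [← h]
    exact Ideal.subset_span hz
  exact ⟨key l m h, key m l h.symm⟩

end Groth.Agent.Krr.H500.KosTransfer
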