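import Groth.Agent.Krr.H500.GrChern
import Groth.Agent.Krr.H482.PullFinal
import Groth.Prelude.Def_KRR
import Groth.Prelude.Def_Omega2

/-!
# The graded excess intersection formula, from the formula on `K` and the rational Riemann-Roch filtration statement
-/

set_option autoImplicit false
universe v u
open CategoryTheory CategoryTheory.Limits AlgebraicGeometry
open KRR

namespace Groth.Agent.Krr.H500.S3801Cond

theorem of_excess {X Y X₁ Y₁ : Scheme.{u}}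
    (f : X ⟶ Y) [ConnectedSpace ↥X] (d : ℕ)
    (hC : FlatMod.IsFinLocFreeOfRank d (Omega.conormal f))
    (f₁ : X₁ ⟶ Y₁) (ψ : X₁ ⟶ X)
    [ConnectedSpace ↥X₁] (d₁ : ℕ) (hd : d₁ ≤ d)
    (hC₁ : FlatMod.IsFinLocFreeOfRank d₁ (Omega.conormal f₁))
    (KX : Type v) [CommRing KX] [LambdaRing.LambdaOps KX] (PX : LambdaRing.PosStructure KX) (φX : SGA6.Kvb X →+ KX) (hKX : KRR.IsModel X KX PX φX)
    (KY : Type v) [CommRing KY] [LambdaRing.LambdaOps KY] (PY : LambdaRing.PosStructure KY)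
    (KX₁ : Type v) [CommRing KX₁] [LambdaRing.LambdaOps KX₁] (PX₁ : LambdaRing.PosStructure KX₁) (φX₁ : SGA6.Kvb X₁ →+ KX₁) (hKX₁ : KRR.IsModel X₁ KX₁ PX₁ φX₁)
    (KY₁ : Type v) [CommRing KY₁] [LambdaRing.LambdaOps KY₁] (PY₁ : LambdaRing.PosStructure KY₁)
    (gφ : KY →+ KY₁) (gψ : KX →+ KX₁) (hgψ : KRR.IsPull ψ φX φX₁ gψ)
    (gf : KX →+ KY) (gf₁ : KX₁ →+ KY₁)
    (φG : KGr.Gr PY →+ KGr.Gr PY₁) (hφG : KGr.IsGrPull PY PY₁ gφ φG)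
    (ψG : KGr.Gr PX →+ KGr.Gr PX₁) (hψG : KGr.IsGrPull PX PX₁ gψ ψG)
    (fG : KGr.Gr PX →+ KGr.Gr PY) (hfG : KGr.IsGrPush PX PY gf d fG)
    (f₁G : KGr.Gr PX₁ →+ KGr.Gr PY₁) (hf₁G : KGr.IsGrPush PX₁ PY₁ gf₁ d₁ f₁G)
    (k : ℕ) (x : KX) (hx : x ∈ LambdaRing.gammaFiltration PX k)
    (hfx : ∃ N : ℕ, 1 ≤ N ∧ (N : KY) * gf x ∈ LambdaRing.gammaFiltration PY (k + d))
    (hexc : gφ (gf x) = gf₁ (KRR.lamAlt PX₁ (gψ (φX (KRR.cl X (Omega.conormal f))) - φX₁ (KRR.cl X₁ (Omega.conormal f₁))) * gψ x)) :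
    f₁G ((-1 : KGr.Gr PX₁) ^ (d - d₁) *
        KGr.chern PX₁ (d - d₁) (gψ (φX (KRR.cl X (Omega.conormal f))) - φX₁ (KRR.cl X₁ (Omega.conormal f₁))) *
        ψG (KGr.grK PX (k : ℤ) x)) = φG (fG (KGr.grK PX (k : ℤ) x)) := by
  refine GrChern.graded_excess hφG hψG hd hfG hf₁G ?_ hx ?_ hfx hexc
  · rw [map_sub, H482.PullLambda.pull_aug hKX₁ hKX hgψ, hKX.aug_cl d _ hC, hKX₁.aug_cl d₁ _ hC₁, Nat.cast_sub hd]
  · exact GrK.mem_QF_of_mem (H482.PullFinal.pull_mem_gammaFiltration hKX₁ hKX hgψ k hx)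

end Groth.Agent.Krr.H500.S3801Cond
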