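import Groth.Agent.Krr.H500.KosLocal
import Groth.Agent.Krr.H468.TCx
import Groth.Agent.Krr.H489.PullRes
import Groth.Agent.Dcoh.StalkT
import Groth.Agent.Fdesc.PullbackStalk
import Groth.Agent.Sga67.SelfIntDE

/-!
# Stalks of `H_p(N ⊗ φ^* L)`
-/

set_option autoImplicit false

universe u v w

open CategoryTheory Category Limits MonoidalCategory AlgebraicGeometry

namespace Groth.Agent.Krr.H500.StalkCx

open KosEval KosLocal Groth.Agent.Dcoh.Stalk Groth.Agent.Krr.H468.TCx Groth.Agent.Krr.H489.PullRes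
open Groth.Agent.Fdesc.PullbackStalk

theorem stalkF_map_eq {X : Scheme.{u}} {M N : X.Modules} (α : M ⟶ N) (x : X) :
    (stalkF x).map α = (Groth.Agent.Sga67.SelfIntDE.sF x).map α := rfl

theorem stalkF_map_apply {X : Scheme.{u}} {M N : X.Modules} (α : M ⟶ N) (x : X) (m : M.presheaf.stalk x) :
    ((stalkF x).map α).hom m = Groth.Agent.Fdesc.Skyscraper.stalkMap α x m :=
  (Groth.Agent.Fdesc.Skyscraper.stalkMap_eq α x m).symm

variable {Y₁ Y : Scheme.{u}} (φ : Y₁ ⟶ Y) (y : Y₁)

/-- The stalk of `φ^* M`. -/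
noncomputable def pullStalkIso (M : Y.Modules) :
    (ModuleCat.extendScalars.{u, u, u} (φ.stalkMap y).hom).obj ((stalkF (φ y)).obj M) ≅
      (stalkF y).obj ((Scheme.Modules.pullback φ).obj M) :=
  LinearEquiv.toModuleIso (X₁ := ((ModuleCat.extendScalars.{u, u, u} (φ.stalkMap y).hom).obj ((stalkF (φ y)).obj M)))
    (X₂ := ((Scheme.Modules.pullback φ).obj M).presheaf.stalk y) (stalkPullbackEquiv φ M y)

lemma pullStalkIso_apply (M : Y.Modules) (m : (stalkF (φ y)).obj M) :
    let := stalkAlg φ y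
    (pullStalkIso φ y M).hom.hom ((1 : Y₁.presheaf.stalk y) ⊗ₜ[Y.presheaf.stalk (φ y)] m) = canAdd φ M y m := by
  intro _
  have h := stalkPullbackEquiv_tmul φ M y 1 m
  rw [one_smul] at h
  exact h

lemma pullStalkIso_natural {M N : Y.Modules} (α : M ⟶ N) :
    (ModuleCat.extendScalars.{u, u, u} (φ.stalkMap y).hom).map ((stalkF (φ y)).map α) ≫ (pullStalkIso φ y N).hom =
      (pullStalkIso φ y M).hom ≫ (stalkF y).map ((Scheme.Modules.pullback φ).map α) := by
  let := stalkAlg φ y
  ext m
  change (pullStalkIso φ y N).hom.hom ((1 : Y₁.presheaf.stalk y) ⊗ₜ[Y.presheaf.stalk (φ y)] ((stalkF (φ y)).map α).hom m) =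
    ((stalkF y).map ((Scheme.Modules.pullback φ).map α)).hom
      ((pullStalkIso φ y M).hom.hom ((1 : Y₁.presheaf.stalk y) ⊗ₜ[Y.presheaf.stalk (φ y)] m))
  rw [pullStalkIso_apply, pullStalkIso_apply, stalkF_map_apply, stalkF_map_apply]
  exact (stalkMap_pullback_canAdd φ α y m).symm

/-- The stalk functor of the pull-back. -/
noncomputable def pullStalk : Scheme.Modules.pullback φ ⋙ stalkF y ≅
    stalkF (φ y) ⋙ ModuleCat.extendScalars.{u, u, u} (φ.stalkMap y).hom :=
  NatIso.ofComponents (fun M => (pullStalkIso φ y M).symm) (fun {M N} α => by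
    change (stalkF y).map ((Scheme.Modules.pullback φ).map α) ≫ (pullStalkIso φ y N).inv =
      (pullStalkIso φ y M).inv ≫ (ModuleCat.extendScalars.{u, u, u} (φ.stalkMap y).hom).map ((stalkF (φ y)).map α)
    rw [Iso.comp_inv_eq, assoc, Iso.eq_inv_comp, pullStalkIso_natural])

/-- `M ↦ (N ⊗ φ^* M)_y` -/
noncomputable abbrev FN (N : Y₁.Modules) : Y.Modules ⥤ ModuleCat.{u} (Y₁.presheaf.stalk y) :=
  Scheme.Modules.pullback φ ⋙ DCoh.tensorBi.obj N ⋙ stalkF y

/-- `M ↦ N_y ⊗ (O_y ⊗ M_{φ y})` -/
noncomputable abbrev HN (N : ModuleCat.{u} (Y₁.presheaf.stalk y)) : Y.Modules ⥤ ModuleCat.{u} (Y₁.presheaf.stalk y) :=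
  stalkF (φ y) ⋙ (Gx (φ.stalkMap y).hom ⋙ (evaluation _ _).obj N)

/-- The comparison. -/
noncomputable def stalkIso (N : Y₁.Modules) : FN φ y N ≅ HN φ y ((stalkF y).obj N) :=
  NatIso.ofComponents (fun M => tensorStalkIso N ((Scheme.Modules.pullback φ).obj M) y ≪≫
    whiskerLeftIso ((stalkF y).obj N) ((pullStalk φ y).app M)) (fun {M M'} α => by
      change (stalkF y).map ((DCoh.tensorBi.obj N).map ((Scheme.Modules.pullback φ).map α)) ≫
        (tensorStalkIso N ((Scheme.Modules.pullback φ).obj M') y).hom ≫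
          ((stalkF y).obj N ◁ (pullStalk φ y).hom.app M') =
        ((tensorStalkIso N ((Scheme.Modules.pullback φ).obj M) y).hom ≫
          ((stalkF y).obj N ◁ (pullStalk φ y).hom.app M)) ≫
          ((stalkF y).obj N ◁ (ModuleCat.extendScalars.{u, u, u} (φ.stalkMap y).hom).map ((stalkF (φ y)).map α))
      rw [← assoc, tensorStalkIso_naturality_right, assoc, assoc, ← MonoidalCategory.whiskerLeft_comp,
        ← MonoidalCategory.whiskerLeft_comp]
      have h : (stalkF y).map ((Scheme.Modules.pullback φ).map α) ≫ (pullStalk φ y).hom.app M' =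
        (pullStalk φ y).hom.app M ≫
          (ModuleCat.extendScalars.{u, u, u} (φ.stalkMap y).hom).map ((stalkF (φ y)).map α) :=
        (pullStalk φ y).hom.naturality α
      rw [h])

/-- The natural transformation induced by `g : N ⟶ N'`. -/
noncomputable abbrev Tg {N N' : Y₁.Modules} (g : N ⟶ N') : FN φ y N ⟶ FN φ y N' :=
  Functor.whiskerLeft (Scheme.Modules.pullback φ) (Functor.whiskerRight (DCoh.tensorBi.map g) (stalkF y))

lemma stalkIso_natural {N N' : Y₁.Modules} (g : N ⟶ N') :
    Tg φ y g ≫ (stalkIso φ y N').hom = (stalkIso φ y N).hom ≫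
      Functor.whiskerLeft (stalkF (φ y)) (Functor.whiskerLeft (Gx (φ.stalkMap y).hom) (ev ((stalkF y).map g))) := by
  ext1
  funext M
  change (stalkF y).map ((DCoh.tensorBi.map g).app ((Scheme.Modules.pullback φ).obj M)) ≫
      (tensorStalkIso N' ((Scheme.Modules.pullback φ).obj M) y).hom ≫
        ((stalkF y).obj N' ◁ (pullStalk φ y).hom.app M) =
      ((tensorStalkIso N ((Scheme.Modules.pullback φ).obj M) y).hom ≫
        ((stalkF y).obj N ◁ (pullStalk φ y).hom.app M)) ≫
          ((stalkF y).map g ▷ (ModuleCat.extendScalars.{u, u, u} (φ.stalkMap y).hom).obj ((stalkF (φ y)).obj M))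
  rw [← assoc, tensorStalkIso_naturality_left, assoc, assoc]
  exact congrArg (fun t => (tensorStalkIso N ((Scheme.Modules.pullback φ).obj M) y).hom ≫ t)
    (MonoidalCategory.whisker_exchange ((stalkF y).map g) ((pullStalk φ y).hom.app M)).symm

section Homology

variable {C D : Type*} [Category* C] [Category* D] [Abelian C] [Abelian D] (F : C ⥤ D) [F.Additive]
  [PreservesFiniteLimits F] [PreservesFiniteColimits F]

lemma map_homologyMap_eq_zero {ι : Type*} {c : ComplexShape ι} {K L : HomologicalComplex C c} (ψ : K ⟶ L) (i : ι)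
    (h : HomologicalComplex.homologyMap ((F.mapHomologicalComplex c).map ψ) i = 0) :
    F.map (HomologicalComplex.homologyMap ψ i) = 0 := by
  have h1 := (ShortComplex.homologyFunctorIso F).hom.naturality ((HomologicalComplex.shortComplexFunctor C c i).map ψ)
  have h2 : (F.mapShortComplex ⋙ ShortComplex.homologyFunctor D).map
    ((HomologicalComplex.shortComplexFunctor C c i).map ψ) = 0 := h
  rw [h2, zero_comp] at h1
  change (ShortComplex.homologyFunctor C ⋙ F).map ((HomologicalComplex.shortComplexFunctor C c i).map ψ) = 0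
  rw [← cancel_epi ((ShortComplex.homologyFunctorIso F).hom.app ((HomologicalComplex.shortComplexFunctor C c i).obj K)),
    ← h1, comp_zero]

end Homology

/-- Vanishing of the stalk of `H_p(N ⊗ φ^* L) ⟶ H_p(N' ⊗ φ^* L)`. -/
theorem stalk_map_eq_zero (L : ChainComplex Y.Modules ℕ) {N N' : Y₁.Modules} (g : N ⟶ N') (p : ℕ)
    (h : HomologicalComplex.homologyMap ((NatTrans.mapHomologicalComplex
      (Functor.whiskerLeft (Gx (φ.stalkMap y).hom) (ev ((stalkF y).map g))) (ComplexShape.down ℕ)).app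
        (((stalkF (φ y)).mapHomologicalComplex (ComplexShape.down ℕ)).obj L)) p = 0) :
    (stalkF y).map ((U (pullCx φ L) p).map g) = 0 := by
  refine map_homologyMap_eq_zero (stalkF y) ((tcxF (pullCx φ L)).map g) p ?_
  change HomologicalComplex.homologyMap ((NatTrans.mapHomologicalComplex (Tg φ y g) (ComplexShape.down ℕ)).app L) p = 0
  have h1 : (NatTrans.mapHomologicalComplex (Tg φ y g) (ComplexShape.down ℕ)).app L ≫
      (NatTrans.mapHomologicalComplex (stalkIso φ y N').hom (ComplexShape.down ℕ)).app L =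
      (NatTrans.mapHomologicalComplex (stalkIso φ y N).hom (ComplexShape.down ℕ)).app L ≫
      (NatTrans.mapHomologicalComplex (Functor.whiskerLeft (stalkF (φ y))
        (Functor.whiskerLeft (Gx (φ.stalkMap y).hom) (ev ((stalkF y).map g)))) (ComplexShape.down ℕ)).app L := by
    ext1 k
    exact NatTrans.congr_app (stalkIso_natural φ y g) (L.X k)
  have hi : IsIso ((NatTrans.mapHomologicalComplex (stalkIso φ y N').hom (ComplexShape.down ℕ)).app L) :=
    inferInstanceAs (IsIso (((NatIso.mapHomologicalComplex (stalkIso φ y N') (ComplexShape.down ℕ)).app L).hom))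
  rw [← cancel_mono (HomologicalComplex.homologyMap
    ((NatTrans.mapHomologicalComplex (stalkIso φ y N').hom (ComplexShape.down ℕ)).app L) p),
    ← HomologicalComplex.homologyMap_comp, h1, HomologicalComplex.homologyMap_comp]
  have h2 : HomologicalComplex.homologyMap ((NatTrans.mapHomologicalComplex (Functor.whiskerLeft (stalkF (φ y))
        (Functor.whiskerLeft (Gx (φ.stalkMap y).hom) (ev ((stalkF y).map g)))) (ComplexShape.down ℕ)).app L) p = 0 := h
  rw [h2, comp_zero, zero_comp]

end Groth.Agent.Krr.H500.StalkCx
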