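import Groth.Agent.Krr.H500.UVanish
import Groth.Agent.Krr.H472.ExcRec
import Groth.Agent.CohqA.ClosedPush
import Groth.Agent.PerfC.ClosedPush
import Groth.Agent.Sga67.KvbRing
import Groth.Agent.Sga67.SelfIntMain

/-!
# The modules `H_p(J^n ⊗ φ^* L)` as direct images of finite locally free modules

Recursion in the two indices `p`, `n` for the classes.
-/

set_option autoImplicit false

universe u v w

open CategoryTheory Category Limits AlgebraicGeometry

namespace Groth.Agent.Krr.H500.UInd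

open Groth.Agent.Krr.H468.TCx Groth.Agent.Krr.H489.PullRes Groth.Agent.Sga67.IdealPow
open Groth.Agent.Sga67.KvbRing Groth.Agent.Sga67

section Abstract

variable {X Y : Scheme.{u}} (i : X ⟶ Y) [IsClosedImmersion i]

/-- Isomorphic direct images along a closed immersion come from isomorphic modules. -/
theorem nonempty_of_push {M N : X.Modules}
    (h : Nonempty ((Scheme.Modules.pushforward i).obj M ≅ (Scheme.Modules.pushforward i).obj N)) :
    Nonempty (M ≅ N) := by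
  obtain ⟨e⟩ := h
  have := CohqA.ClosedPush.full (i := i)
  have := CohqA.ClosedPush.faithful (i := i)
  exact ⟨(Scheme.Modules.pushforward i).preimageIso e⟩

/-- Short exact sequences whose middle and right terms are direct images. -/
theorem exists_ses {S : ShortComplex Y.Modules} (hS : S.ShortExact) {T E : X.Modules}
    (e₂ : Nonempty (S.X₂ ≅ (Scheme.Modules.pushforward i).obj T))
    (e₃ : Nonempty (S.X₃ ≅ (Scheme.Modules.pushforward i).obj E)) :
    ∃ S' : ShortComplex X.Modules, S'.ShortExact ∧ S'.X₂ = T ∧ S'.X₃ = E ∧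
      Nonempty (S.X₁ ≅ (Scheme.Modules.pushforward i).obj S'.X₁) := by
  obtain ⟨e₂⟩ := e₂
  obtain ⟨e₃⟩ := e₃
  have := CohqA.ClosedPush.full (i := i)
  have := CohqA.ClosedPush.faithful (i := i)
  have hep := hS.epi_g
  let g : (Scheme.Modules.pushforward i).obj T ⟶ (Scheme.Modules.pushforward i).obj E := e₂.inv ≫ S.g ≫ e₃.hom
  obtain ⟨g', hg'⟩ := (Scheme.Modules.pushforward i).map_surjective g
  have hg : Epi g := inferInstanceAs (Epi (e₂.inv ≫ S.g ≫ e₃.hom))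
  have hge : Epi g' := PerfC.ClosedPush.epi_of_epi_pushforward i g' (by rw [hg']; exact hg)
  refine ⟨ShortComplex.mk (kernel.ι g') g' (kernel.condition g'), ?_, rfl, rfl, ?_⟩
  · exact { exact := ShortComplex.exact_of_f_is_kernel _ (kernelIsKernel g')
            mono_f := inferInstanceAs (Mono (kernel.ι g'))
            epi_g := hge }
  · have e1 : S.X₁ ≅ kernel S.g := IsLimit.conePointUniqueUpToIso hS.fIsKernel (limit.isLimit _)
    have e2 : kernel S.g ≅ kernel ((Scheme.Modules.pushforward i).map g') :=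
      kernel.mapIso _ _ e₂ e₃ (by rw [hg']; simp [g])
    exact ⟨e1 ≪≫ e2 ≪≫ (PreservesKernel.iso (Scheme.Modules.pushforward i) g').symm⟩

/-- The two-index recursion. -/
theorem exists_classes (U : ℕ → ℕ → Y.Modules) (T : ℕ → ℕ → X.Modules)
    (hT : ∀ p n, FlatMod.IsFinLocFree (T p n))
    (h0 : ∀ n, Nonempty (U 0 n ≅ (Scheme.Modules.pushforward i).obj (T 0 n)))
    (hs : ∀ p n, ∃ S : ShortComplex Y.Modules, S.ShortExact ∧ Nonempty (S.X₁ ≅ U (p + 1) n) ∧
      Nonempty (S.X₂ ≅ (Scheme.Modules.pushforward i).obj (T (p + 1) n)) ∧ Nonempty (S.X₃ ≅ U p (n + 1))) :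
    ∃ E : ℕ → ℕ → X.Modules, (∀ p n, FlatMod.IsFinLocFree (E p n)) ∧
      (∀ p n, Nonempty (U p n ≅ (Scheme.Modules.pushforward i).obj (E p n))) ∧
      (∀ n, c (E 0 n) = c (T 0 n)) ∧ ∀ p n, c (E (p + 1) n) + c (E p (n + 1)) = c (T (p + 1) n) := by
  have key : ∀ p n, ∃ E : X.Modules, FlatMod.IsFinLocFree E ∧
      Nonempty (U p n ≅ (Scheme.Modules.pushforward i).obj E) := by
    intro p
    induction p with
    | zero => exact fun n => ⟨T 0 n, hT 0 n, h0 n⟩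
    | succ p ih =>
      intro n
      obtain ⟨E, hE, ⟨eE⟩⟩ := ih (n + 1)
      obtain ⟨S, hS, ⟨e1⟩, e2, ⟨e3⟩⟩ := hs p n
      obtain ⟨S', hS', rfl', rfl'', ⟨e4⟩⟩ := exists_ses i hS e2 ⟨e3 ≪≫ eE⟩
      refine ⟨S'.X₁, SelfIntMain.isFinLocFree_kernel hS' (by rw [rfl']; exact hT _ _) (by rw [rfl'']; exact hE),
        ⟨e1.symm ≪≫ e4⟩⟩
  choose E hE eE using key
  refine ⟨E, hE, eE, fun n => ?_, fun p n => ?_⟩
  · obtain ⟨e⟩ := nonempty_of_push i ⟨(eE 0 n).some.symm ≪≫ (h0 n).some⟩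
    exact c_iso e (hE 0 n)
  · obtain ⟨S, hS, ⟨e1⟩, e2, ⟨e3⟩⟩ := hs p n
    obtain ⟨S', hS', h2, h3, ⟨e4⟩⟩ := exists_ses i hS e2 ⟨e3 ≪≫ (eE p (n + 1)).some⟩
    obtain ⟨e⟩ := nonempty_of_push i ⟨(eE (p + 1) n).some.symm ≪≫ e1.symm ≪≫ e4⟩
    have hf2 : FlatMod.IsFinLocFree S'.X₂ := by rw [h2]; exact hT _ _
    have hf3 : FlatMod.IsFinLocFree S'.X₃ := by rw [h3]; exact hE _ _
    have h4 := c_ses hS' (SelfIntMain.isFinLocFree_kernel hS' hf2 hf3) hf2 hf3
    rw [h2, h3] at h4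
    rw [h4, c_iso e (hE _ _)]

end Abstract

section Main

variable {X Y X₁ Y₁ : Scheme.{u}} {f : X ⟶ Y} {φ : Y₁ ⟶ Y} {f₁ : X₁ ⟶ Y₁} {ψ : X₁ ⟶ X}

/-- Classes of the modules `H_p(J^n ⊗ φ^* L)`, given the value of `H_p(f₁_* (J^n/J^{n+1}) ⊗ φ^* L)`. -/
theorem exists_classes_U [IsClosedImmersion f₁] (hsq : IsPullback f₁ ψ φ f) (hf : Mor2.IsRegularClosedImmersion f)
    (hf₁ : Mor2.IsRegularClosedImmersion f₁) {F : X.Modules} (hF : FlatMod.IsFinLocFree F) {n : ℕ}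
    {L : ChainComplex Y.Modules ℕ} {π : L ⟶ (ChainComplex.single₀ Y.Modules).obj ((Scheme.Modules.pushforward f).obj F)}
    (hL : KRR.IsLFRes ((Scheme.Modules.pushforward f).obj F) n L π)
    (T : ℕ → ℕ → X₁.Modules) (hT : ∀ p n, FlatMod.IsFinLocFree (T p n))
    (eT : ∀ p n, Nonempty ((U (pullCx φ L) p).obj ((Scheme.Modules.pushforward f₁).obj (S f₁ n)) ≅
      (Scheme.Modules.pushforward f₁).obj (T p n))) :
    ∃ E : ℕ → ℕ → X₁.Modules, (∀ p n, FlatMod.IsFinLocFree (E p n)) ∧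
      (∀ p n, Nonempty ((U (pullCx φ L) p).obj (J f₁ n) ≅ (Scheme.Modules.pushforward f₁).obj (E p n))) ∧
      (∀ n, c (E 0 n) = c (T 0 n)) ∧ ∀ p n, c (E (p + 1) n) + c (E p (n + 1)) = c (T (p + 1) n) := by
  have hP : ∀ k, FlatMod.IsFlat ((pullCx φ L).X k) := fun k =>
    Groth.Agent.Dcoh.Spread.isFlat_of_isFinLocFree (PerfB.FlatPull.isFinLocFree_pullback φ (hL.finLocFree k))
  have hv := UVanish.map_incl_eq_zero hsq hf hf₁ hF hL
  refine exists_classes f₁ (fun p n => (U (pullCx φ L) p).obj (J f₁ n)) T hT (fun n => ?_) (fun p n => ?_)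
  · have := isIso_map_zero (pullCx φ L) hP (ses_shortExact f₁ n) (hv n 0)
    exact ⟨@asIso _ _ _ _ _ this ≪≫ (eT 0 n).some⟩
  · exact ⟨_, shortExact_of_zero (pullCx φ L) hP (ses_shortExact f₁ n) p (hv n p) (hv n (p + 1)),
      ⟨Iso.refl _⟩, eT (p + 1) n, ⟨Iso.refl _⟩⟩

end Main

end Groth.Agent.Krr.H500.UInd
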