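import Groth.Agent.Krr.H500.StalkCx
import Groth.Agent.Krr.H489.PushTI
import Groth.Agent.Krr.H498.ResCat
import Groth.Agent.Sga67.SelfIntV
import Groth.Prelude.Def_KRR

/-!
# The maps `H_p(J^{n+1} ⊗ φ^* L) ⟶ H_p(J^n ⊗ φ^* L)` vanish

`f : X ⟶ Y` a regular closed immersion, `L → f_* F` a resolution by finite locally free modules, `φ : Y₁ ⟶ Y` such that
the base change `f₁ : X₁ ⟶ Y₁` is a regular closed immersion with ideal `J`.
-/

set_option autoImplicit false

universe u v w

open CategoryTheory Category Limits MonoidalCategory AlgebraicGeometry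

namespace Groth.Agent.Krr.H500.UVanish

open KosEval KosLocal KosMod StalkCx Groth.Agent.Dcoh.Stalk Groth.Agent.Krr.H468.TCx Groth.Agent.Krr.H489.PullRes
open Groth.Agent.Flat2D.PbStalk Groth.Agent.CycB.PushStalk Groth.Agent.Sga67.IdealPow CohIII
open Groth.Agent.Ega3A.Koszul Groth.Agent.Flat2H.KoszulBasic

section Res

variable {Y : Scheme.{u}}

/-- The stalks of a finite locally free resolution are projective resolutions. -/
theorem exists_stalkRes {M : Y.Modules} {n : ℕ} {L : ChainComplex Y.Modules ℕ}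
    {π : L ⟶ (ChainComplex.single₀ Y.Modules).obj M} (h : KRR.IsLFRes M n L π) (y : Y) :
    ∃ P : ProjectiveResolution ((stalkF y).obj M),
      P.complex = ((stalkF y).mapHomologicalComplex (ComplexShape.down ℕ)).obj L := by
  have hx := (Groth.Agent.Krr.H498.ResCat.quasiIso_iff π).1 h.quasiIso
  have hf : (((stalkF y).mapHomologicalComplex (ComplexShape.down ℕ)).obj L).d 1 0 ≫
      (stalkF y).map (Groth.Agent.Krr.H498.ResCat.aug π) = 0 := by
    change (stalkF y).map (L.d 1 0) ≫ (stalkF y).map (Groth.Agent.Krr.H498.ResCat.aug π) = 0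
    rw [← Functor.map_comp, Groth.Agent.Krr.H498.ResCat.d_comp_aug, Functor.map_zero]
  have hq : QuasiIso (Groth.Agent.Krr.H498.ResCat.mkAug
      (((stalkF y).mapHomologicalComplex (ComplexShape.down ℕ)).obj L)
      ((stalkF y).map (Groth.Agent.Krr.H498.ResCat.aug π)) hf) := by
    rw [Groth.Agent.Krr.H498.ResCat.quasiIso_iff]
    have h3 := hx.epi
    exact Groth.Agent.Krr.H498.ResCat.ex_mkAug _ _ _ (fun i => (hx.exact_succ i).map (stalkF y))
      (hx.exact_zero.map (stalkF y)) ((stalkF y).map_epi (Groth.Agent.Krr.H498.ResCat.aug π))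
  exact ⟨{ complex := ((stalkF y).mapHomologicalComplex (ComplexShape.down ℕ)).obj L
           projective := fun k => Dcoh.PerfFlat.projective_stalk (h.finLocFree k) y
           π := _
           quasiIso := hq }, rfl⟩

end Res

lemma ofList_eq_span {A : Type u} [CommRing A] (l : List A) : Ideal.ofList l = Ideal.span {x | x ∈ l} := rfl

lemma weaklyRegular_one (A : Type u) [CommRing A] : RingTheory.Sequence.IsWeaklyRegular A [(1 : A)] := by
  rw [RingTheory.Sequence.isWeaklyRegular_cons_iff]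
  refine ⟨?_, RingTheory.Sequence.IsWeaklyRegular.nil _ _⟩
  intro a b h
  simpa using h

/-- The Koszul homology of the list `[1]` vanishes. -/
lemma kv_one {B : Type u} [CommRing B] {N N' : ModuleCat.{u} B} (g : N ⟶ N') : KV [(1 : B)] g := by
  intro i
  have hz : IsZero ((kos [(1 : B)] ((sg B).obj N)).homology i) := by
    rw [kos_cons, kos_nil, isZero_homology_cone1_iff _ _ i (i + 1) rfl, one_smul, one_smul]
    exact ⟨inferInstance, inferInstance⟩
  exact hz.eq_of_src _ _

variable {X Y X₁ Y₁ : Scheme.{u}} {f : X ⟶ Y} {φ : Y₁ ⟶ Y} {f₁ : X₁ ⟶ Y₁} {ψ : X₁ ⟶ X}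

/-- A Koszul-regular sequence of generators of the ideal of the stalk. -/
theorem exists_seq {X Y : Scheme.{u}} (i : Y ⟶ X) (hi₀ : Mor2.IsRegularClosedImmersion i) (y : Y) :
    ∃ fs : List (X.presheaf.stalk (i y)), LCI.IsKoszulRegularSeq _ fs ∧
      Ideal.span {x | x ∈ fs} = RingHom.ker (i.stalkMap y).hom := by
  have := hi₀.1
  have hreg : Divis.RegImm.RegAt i.ker (i y) := by
    obtain ⟨U, hU, hyU, rs, hrs, hk⟩ := hi₀.2 y
    exact ⟨⟨U, hU⟩, hyU, rs, hrs.toIsWeaklyRegular, hk⟩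
  obtain ⟨U, hU, hxU, -⟩ := exists_isAffineOpen_mem_and_subset (X := X) (x := i y) (U := ⊤) trivial
  obtain ⟨rs, h1, h2⟩ := Divis.RegStalk.RegAt.exists_stalk hreg ⟨U, hU⟩ hxU
  refine ⟨rs, Flat2H.KoszulBC.isKoszulRegularSeq_of_isWeaklyRegular h1, ?_⟩
  rw [Divis.RegStalk.ker_stalkMap i y ⟨U, hU⟩ hxU, h2]

theorem koszul_stalk {X Y : Scheme.{u}} (i : Y ⟶ X) [IsClosedImmersion i] (y : Y)
    (fs : List (X.presheaf.stalk (i y)))
    (h : LCI.IsKoszulRegularSeq _ fs) (hfs : Ideal.span {x | x ∈ fs} = RingHom.ker (i.stalkMap y).hom)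
    (n : ℕ) (m : ℤ) :
    HomologicalComplex.homologyMap (kMap ((stalkF (i y)).map (incl i n)) fs) m = 0 := by
  let e : ∀ n : ℕ, (stalkF (i y)).obj (J i n) ≅ ModuleCat.of (X.presheaf.stalk (i y))
      ↥(Groth.Agent.Sga67.IdealPowStalk.Ix i y ^ n) :=
    fun n => (Groth.Agent.Sga67.IdealPowStalk.stalkJ i n y).toModuleIso
  have h1 : (stalkF (i y)).map (incl i n) ≫ (e n).hom = (e (n + 1)).hom ≫ ModuleCat.ofHom
      (Submodule.inclusion (Ideal.pow_le_pow_right (Nat.le_succ n) :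
        Groth.Agent.Sga67.IdealPowStalk.Ix i y ^ (n + 1) ≤ Groth.Agent.Sga67.IdealPowStalk.Ix i y ^ n)) := by
    ext t
    exact Groth.Agent.Sga67.IdealPowStalk.coe_stalkJ_incl i n y t
  have h2 : (stalkF (i y)).map (incl i n) = (e (n + 1)).hom ≫ ModuleCat.ofHom
      (Submodule.inclusion (Ideal.pow_le_pow_right (Nat.le_succ n) :
        Groth.Agent.Sga67.IdealPowStalk.Ix i y ^ (n + 1) ≤ Groth.Agent.Sga67.IdealPowStalk.Ix i y ^ n)) ≫
        (e n).inv := by
    rw [← reassoc_of% h1, Iso.hom_inv_id, Category.comp_id]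
  rw [h2, kMap_comp, kMap_comp, HomologicalComplex.homologyMap_comp,
    HomologicalComplex.homologyMap_comp, Groth.Agent.Sga67.SelfIntV.koszul_incl _ fs hfs h, zero_comp, comp_zero]

theorem exists_seq' (hf : Mor2.IsRegularClosedImmersion f) (x : X) {y : Y} (hy : f x = y) :
    ∃ a : List (Y.presheaf.stalk y), LCI.IsKoszulRegularSeq _ a ∧
      Ideal.span {t | t ∈ a} = RingHom.ker (stalkTo f x hy).hom := by
  subst hy
  rw [stalkTo_rfl]
  exact exists_seq f hf x

theorem exists_push_equiv [IsClosedImmersion f] {F : X.Modules} (hF : FlatMod.IsFinLocFree F) (x : X) {y : Y}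
    (hy : f x = y) : ∃ r : ℕ, Nonempty (((Scheme.Modules.pushforward f).obj F).presheaf.stalk y
      ≃ₗ[Y.presheaf.stalk y] (Fin r → Y.presheaf.stalk y ⧸ RingHom.ker (stalkTo f x hy).hom)) := by
  subst hy
  rw [stalkTo_rfl]
  obtain ⟨n, ⟨b⟩⟩ := Dcoh.PerfFlat.exists_basis_stalk hF x
  exact ⟨n, Groth.Agent.Krr.H489.PushTI.nonempty_equiv (f.stalkMap x).hom (f.stalkMap_surjective x)
    (pushStalk f F x) (pushStalk_bijective f f.isClosedEmbedding.isInducing F x) b⟩

/-- **The maps `U_p(J^{n+1}) ⟶ U_p(J^n)` vanish.** -/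
theorem map_incl_eq_zero (hsq : IsPullback f₁ ψ φ f) (hf : Mor2.IsRegularClosedImmersion f)
    (hf₁ : Mor2.IsRegularClosedImmersion f₁) {F : X.Modules} (hF : FlatMod.IsFinLocFree F) {n : ℕ}
    {L : ChainComplex Y.Modules ℕ} {π : L ⟶ (ChainComplex.single₀ Y.Modules).obj ((Scheme.Modules.pushforward f).obj F)}
    (hL : KRR.IsLFRes ((Scheme.Modules.pushforward f).obj F) n L π) (m p : ℕ) :
    (U (pullCx φ L) p).map (incl f₁ m) = 0 := by
  have hfc : IsClosedImmersion f := hf.1
  have hf₁c : IsClosedImmersion f₁ := hf₁.1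
  apply Dcoh.StalkMod.hom_ext_stalk
  intro y
  suffices h : (stalkF y).map ((U (pullCx φ L) p).map (incl f₁ m)) = 0 by
    have h1 : (stalkF y).map ((U (pullCx φ L) p).map (incl f₁ m)) = (stalkF y).map 0 := by
      rw [h, Functor.map_zero]
    exact congrArg ModuleCat.Hom.hom h1
  refine stalk_map_eq_zero φ y L (incl f₁ m) p ?_
  obtain ⟨P, hP⟩ := exists_stalkRes hL (φ y)
  rw [← hP]
  by_cases hy : φ y ∈ Set.range f
  · obtain ⟨x, hx⟩ := hy
    obtain ⟨x₁, hx₁, -⟩ : ∃ z : X₁, f₁ z = y ∧ ψ z = x := by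
      obtain ⟨z, h1, h2⟩ := Scheme.Pullback.exists_preimage_pullback (f := φ) (g := f) y x hx.symm
      refine ⟨hsq.isoPullback.inv z, ?_, ?_⟩
      · rw [← Scheme.Hom.comp_apply, hsq.isoPullback_inv_fst, h1]
      · rw [← Scheme.Hom.comp_apply, hsq.isoPullback_inv_snd, h2]
    subst hx₁
    have hw : f (ψ x₁) = φ (f₁ x₁) := by
      rw [← Scheme.Hom.comp_apply, ← Scheme.Hom.comp_apply, hsq.w]
    obtain ⟨a, ha, hak⟩ := exists_seq' hf (ψ x₁) hw
    obtain ⟨b, hb, hbk⟩ := exists_seq f₁ hf₁ x₁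
    obtain ⟨r, ⟨e⟩⟩ := exists_push_equiv hF (ψ x₁) hw
    rw [← hak] at e
    refine vanish_ext (b := b) ha ?_ e _ (fun i => ?_) P p
    · rw [← Ideal.map_ofList, ofList_eq_span, ofList_eq_span, hak, hbk]
      exact (Sga3C.QStalkKer.ker_stalkMap_of_isPullback hsq x₁ hw).symm
    · exact koszul_stalk f₁ x₁ b hb hbk m i
  · have hs : Subsingleton ((stalkF (φ y)).obj ((Scheme.Modules.pushforward f).obj F)) := by
      refine subsingleton_stalk_push f F (φ y) ?_
      rw [f.isClosedEmbedding.isClosed_range.closure_eq]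
      exact hy
    refine vanish_ext (a := [1]) (b := [1]) (r := 0) (Flat2H.KoszulBC.isKoszulRegularSeq_of_isWeaklyRegular
      (weaklyRegular_one _)) ?_ ?_ _ (fun i => ?_) P p
    · simp
    · exact { toFun := fun _ => 0, invFun := fun _ => 0, map_add' := fun _ _ => by simp,
              map_smul' := fun _ _ => by simp, left_inv := fun _ => Subsingleton.elim _ _,
              right_inv := fun _ => Subsingleton.elim _ _ }
    · exact (kv_iff _ _).1 (kv_one _) i

end Groth.Agent.Krr.H500.UVanish
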